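import Cfsg.Agent.Geo.SUEight.Group
import Cfsg.Agent.Geo.UnitSubspace
import Cfsg.Agent.Unitary.Simple

/-!
An element of the centraliser of a monomial which does not normalise on the fixed space puts all transvections
of that space into the group.
-/

set_option autoImplicit false
set_option linter.unusedSectionVars false

namespace CfsgLib.Geo.SUEight

open Matrix Cfsg Cfsg.Geo CfsgLib.Geo.UTv CfsgLib.Geo.PauliEight
open scoped commutatorElement

variable {F : Type*} [Field F] [Finite F] {p : ℕ}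

/-- A normal subgroup of SU is central or everything. -/
theorem normal_su {n q : ℕ} (hF : Nat.card F = q ^ 2) (hn : 3 ≤ n) (h32 : ¬ (n = 3 ∧ q = 2))
    (N : Subgroup (Cfsg.SU n F q)) (hN : N.Normal) : N ≤ Subgroup.center _ ∨ N = ⊤ := by
  haveI : IsSimpleGroup (Cfsg.PSU n F q) := CfsgLib.Unitary.isSimpleGroup_PSU hF hn h32
  let π := QuotientGroup.mk' (Subgroup.center (Cfsg.SU n F q))
  have hmap : (N.map π).Normal := Subgroup.Normal.map hN π (QuotientGroup.mk'_surjective _)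
  rcases IsSimpleGroup.eq_bot_or_eq_top_of_normal (G := Cfsg.PSU n F q) (N.map π) hmap with h | h
  · left
    rw [Subgroup.map_eq_bot_iff, QuotientGroup.ker_mk'] at h
    exact h
  · right
    rw [eq_top_iff, ← CfsgLib.Unitary.commutator_SU_eq_top hF hn h32, commutator_def, Subgroup.commutator_le]
    intro a _ b _
    obtain ⟨a', ha', ea⟩ : π a ∈ N.map π := by rw [h]; trivial
    obtain ⟨c, hc, hac⟩ : ∃ c ∈ Subgroup.center (Cfsg.SU n F q), a = a' * c :=
      ⟨a'⁻¹ * a, (QuotientGroup.eq).1 ea, by group⟩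
    have hcomm := Subgroup.mem_center_iff.1 hc
    have : ⁅a, b⁆ = a' * (b * a'⁻¹ * b⁻¹) := by
      rw [hac, commutatorElement_def, _root_.mul_inv_rev]
      calc a' * c * b * (c⁻¹ * a'⁻¹) * b⁻¹ = a' * (b * c) * (c⁻¹ * a'⁻¹) * b⁻¹ := by
            rw [mul_assoc a' c b, ← hcomm b]
        _ = _ := by group
    rw [this]
    exact N.mul_mem ha' (hN.conj_mem _ (N.inv_mem ha') b)

/-- SU is contained in a subgroup of GL whose pull-back to SU is everything. -/
theorem suGL_le_of_comap {n q : ℕ} {K : Subgroup (GL (Fin n) F)}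
    (h : K.comap (Matrix.SpecialLinearGroup.toGL.comp (Cfsg.SU n F q).subtype) = ⊤) : suGL n F q ≤ K := by
  intro g hg
  let g' : Cfsg.SU n F q :=
    ⟨⟨(g : Matrix (Fin n) (Fin n) F), mem_specialLinear.1 hg.2⟩, fun u v => herm_mulVec hg u v⟩
  have := (Subgroup.mem_comap (K := K)
    (f := Matrix.SpecialLinearGroup.toGL.comp (Cfsg.SU n F q).subtype) (x := g')).1 (by rw [h]; trivial)
  rwa [show (Matrix.SpecialLinearGroup.toGL.comp (Cfsg.SU n F q).subtype) g' = g from Units.ext rfl] at this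

variable {S : Sys (Fin 8) F Vec}

/-- The indices orthogonal to an anticommuting pair. -/
def perpPair (S : Sys (Fin 8) F Vec) (v u : Vec) : AddSubgroup Vec where
  carrier := {w | S.B w v = 0 ∧ S.B w u = 0}
  add_mem' {x y} hx hy := ⟨by rw [S.B_add, hx.1, hy.1, add_zero], by rw [S.B_add, hx.2, hy.2, add_zero]⟩
  zero_mem' := ⟨S.B_zero v, S.B_zero u⟩
  neg_mem' {x} hx := by
    rw [Set.mem_ofPred_eq, show -x = x from neg_eq_of_add_eq_zero_left (S.torsion x)]; exact hx

theorem comm_of_B {x v : Vec} (h : S.B v x = 0) : S.E x * S.E v = S.E v * S.E x := by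
  rw [S.E_comm v x, h, sgn_zero, one_smul]

/-- The projection of an index to the orthogonal of a pair. -/
def prj (S : Sys (Fin 8) F Vec) (v u x : Vec) : Vec :=
  x + (if S.B x v = 1 then u else 0) + (if S.B x u = 1 then v else 0)

theorem prj_mem {v u : Vec} (hvu : S.B v u = 1) (x : Vec) : prj S v u x ∈ perpPair S v u := by
  have huv : S.B u v = 1 := (S.B_symm _ _).trans hvu
  constructor <;> rcases bit_cases (S.B x v) with a | a <;> rcases bit_cases (S.B x u) with b | b <;>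
    simp [prj, S.B_add, S.B_self, a, b, hvu, huv, bit_self]

theorem prj_split {v u r : Vec} (hr : S.B v r = 0) :
    prj S v u r = r + (if S.B r u = 1 then v else 0) := by
  simp [prj, (S.B_symm r v).trans hr]

theorem card_perpPair {v u : Vec} (hvu : S.B v u = 1) : Nat.card (perpPair S v u) = 16 := by
  have huv : S.B u v = 1 := (S.B_symm _ _).trans hvu
  have h : Nat.card (perpPair S v u × ZMod 2 × ZMod 2) = Nat.card Vec := by
    refine Nat.card_congr
      { toFun := fun t => (t.1 : Vec) + (if t.2.1 = 1 then u else 0) + (if t.2.2 = 1 then v else 0)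
        invFun := fun x => (⟨prj S v u x, prj_mem hvu x⟩, S.B x v, S.B x u)
        left_inv := fun t => ?_
        right_inv := fun x => ?_ }
    · obtain ⟨⟨k, hk1, hk2⟩, a, b⟩ := t
      have e1 : S.B (k + (if a = 1 then u else 0) + (if b = 1 then v else 0)) v = a := by
        rcases bit_cases a with rfl | rfl <;> rcases bit_cases b with rfl | rfl <;>
          simp [S.B_add, S.B_self, hk1, huv]
      have e2 : S.B (k + (if a = 1 then u else 0) + (if b = 1 then v else 0)) u = b := by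
        rcases bit_cases a with rfl | rfl <;> rcases bit_cases b with rfl | rfl <;>
          simp [S.B_add, S.B_self, hk2, hvu]
      refine Prod.ext (Subtype.ext ?_) (Prod.ext e1 e2)
      show prj S v u _ = k
      rw [prj, e1, e2]
      rcases bit_cases a with rfl | rfl <;> rcases bit_cases b with rfl | rfl <;>
        simp [S.add_add_self, add_assoc, S.torsion]
      rw [← add_assoc]
      exact S.torsion _
    · show prj S v u x + _ + _ = x
      rw [prj]
      rcases bit_cases (S.B x v) with a | a <;> rcases bit_cases (S.B x u) with b | b <;>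
        simp [a, b, S.add_add_self]
      rw [add_right_comm x, S.add_add_self, add_right_comm, S.add_add_self]
  rw [Nat.card_prod, Nat.card_prod, Nat.card_zmod, Nat.card_eq_fintype_card (α := Vec)] at h
  have : Fintype.card Vec = 64 := by simp
  omega

section sub

variable (hS : UData p S) {v u : Vec} (hvu : S.B v u = 1) (j : Emb p (S.E v))
  [Fintype (perpPair S v u)] [DecidableEq (perpPair S v u)]

theorem comm_perp (w : perpPair S v u) : S.E (w : Vec) * S.E v = S.E v * S.E (w : Vec) :=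
  comm_of_B ((S.B_symm _ _).trans w.2.1)

/-- The system on the fixed space. -/
def subSys : Sys (Fin 4) F (perpPair S v u) where
  E w := j.res (S.E (w : Vec))
  B x y := S.B (x : Vec) y
  i := S.i
  two := S.two
  sq_i := S.sq_i
  torsion x := Subtype.ext (S.torsion _)
  B_add x y z := S.B_add _ _ _
  B_self x := S.B_self _
  B_symm x y := S.B_symm _ _
  B_nondeg x hx := by
    obtain ⟨y, hy⟩ := S.B_nondeg (x : Vec) fun e => hx (Subtype.ext e)
    refine ⟨⟨prj S v u y, prj_mem hvu y⟩, ?_⟩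
    show S.B (x : Vec) (prj S v u y) = 1
    simp only [prj, S.B_add']
    split_ifs <;> simp [hy, x.2.1, x.2.2]
  E_zero := by simp [S.E_zero]
  E_sq w := by rw [← j.res_mul (comm_perp w), S.E_sq, Emb.res_one]
  E_mul x y := by
    obtain ⟨c, hc, h⟩ := S.E_mul (x : Vec) y
    exact ⟨c, hc, by rw [← j.res_mul (comm_perp y), h, j.res_smul]; rfl⟩
  E_comm x y := by rw [← j.res_mul (comm_perp x), ← j.res_mul (comm_perp y), S.E_comm (x : Vec) y, j.res_smul]
  card_ne := by
    rw [Fintype.card_fin, show ((4 : ℕ) : F) = 2 * 2 by norm_num]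
    exact mul_ne_zero S.two S.two
  card_sq := by rw [← Nat.card_eq_fintype_card, card_perpPair hvu, Fintype.card_fin]

local notation "T" => subSys hvu j

theorem subSys_E (w : perpPair S v u) : (T).E w = j.res (S.E (w : Vec)) := rfl

/-- A monomial commuting with `E v` acts as one of the system on the fixed space. -/
theorem res_E {r : Vec} (hr : S.B v r = 0) :
    ∃ d : F, j.res (S.E r) = d • (T).E ⟨prj S v u r, prj_mem hvu r⟩ := by
  rw [subSys_E]
  show ∃ d : F, j.res (S.E r) = d • j.res (S.E (prj S v u r))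
  rw [prj_split hr]
  split_ifs
  · obtain ⟨c, hc, h⟩ := S.E_mul_ne (r + v) v
    rw [S.add_add_self] at h
    refine ⟨c⁻¹, ?_⟩
    have := congrArg j.res h
    rw [j.res_mul (comm_of_B (S.B_self v)), j.res_A S.two, mul_one, j.res_smul] at this
    rw [this, smul_smul, inv_mul_cancel₀ hc, one_smul]
  · exact ⟨1, by rw [add_zero, one_smul]⟩

omit hvu [Fintype (perpPair S v u)] [DecidableEq (perpPair S v u)] in
theorem res_cj {g : GL (Fin 8) F} (hg : (g : Matrix (Fin 8) (Fin 8) F) * S.E v = S.E v * g)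
    {A : Matrix (Fin 8) (Fin 8) F} (hA : A * S.E v = S.E v * A) :
    j.res (cj g A) = cj (j.resU g hg) (j.res A) := by
  rw [cj, cj, Emb.resU_val, show ((j.resU g hg)⁻¹ : GL (Fin 4) F).val = j.res (g⁻¹ : GL (Fin 8) F).val from rfl,
    j.res_mul (Commute.units_inv_left (a := S.E v) hg).eq, j.res_mul hA]

/-- The images on the fixed space of the centraliser in `M`. -/
def img (M : Subgroup (GL (Fin 8) F)) : Subgroup (GL (Fin 4) F) where
  carrier := {h | ∃ g ∈ M, ∃ hc : (g : Matrix (Fin 8) (Fin 8) F) * S.E v = S.E v * g, j.resU g hc = h}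
  one_mem' := ⟨1, M.one_mem, by simp, Units.ext (by simp)⟩
  mul_mem' {a b} ha hb := by
    obtain ⟨g, hg, hc, rfl⟩ := ha
    obtain ⟨k, hk, hd, rfl⟩ := hb
    exact ⟨g * k, M.mul_mem hg hk, (Commute.mul_left hc hd : Commute _ (S.E v)).eq,
      Units.ext (by simp [j.res_mul hd])⟩
  inv_mem' {a} ha := by
    obtain ⟨g, hg, hc, rfl⟩ := ha
    exact ⟨g⁻¹, M.inv_mem hg, (Commute.units_inv_left (a := S.E v) hc).eq, Units.ext rfl⟩

/-- The same up to scalars. -/
def imgS (M : Subgroup (GL (Fin 8) F)) : Subgroup (GL (Fin 4) F) := img j M ⊔ scal (Fin 4) F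

omit hvu [Fintype (perpPair S v u)] [DecidableEq (perpPair S v u)] in
theorem mem_imgS {M : Subgroup (GL (Fin 8) F)} {h : GL (Fin 4) F} :
    h ∈ imgS j M ↔ ∃ x ∈ img j M, ∃ c : F, c ≠ 0 ∧
      (h : Matrix (Fin 4) (Fin 4) F) = c • (x : Matrix (Fin 4) (Fin 4) F) := by
  constructor
  · intro hh
    haveI : (scal (Fin 4) F).Normal := inferInstance
    obtain ⟨x, hx, z, hz, rfl⟩ := Subgroup.mem_sup_of_normal_right.1 hh
    obtain ⟨c, hc, e⟩ := mem_scal.1 hz
    exact ⟨x, hx, c, hc, by rw [Units.val_mul, e, mul_smul_comm, mul_one]⟩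
  · rintro ⟨x, hx, c, hc, e⟩
    rw [show h = x * (x⁻¹ * h) by group]
    refine Subgroup.mul_mem_sup hx (mem_scal.2 ⟨c, hc, ?_⟩)
    rw [Units.val_mul, e, mul_smul_comm, Units.inv_mul]

variable {M : Subgroup (GL (Fin 8) F)}
  (hN : subgroupNormalizer (grp S) ⊓ suGL 8 F p ≤ M) (hMI : M ≤ suGL 8 F p)
include hS hN

omit hvu j [Fintype (perpPair S v u)] [DecidableEq (perpPair S v u)] in
theorem u_mem_M (x : Vec) : S.u x ∈ M := hN ⟨normalizer_of_norm S (S.norm_u x), u_mem_su hS x⟩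

omit hvu j [Fintype (perpPair S v u)] [DecidableEq (perpPair S v u)] in
theorem lu_mem_M {x : Vec} (hx : x ≠ 0) : lu hS x ∈ M :=
  hN ⟨normalizer_of_norm S (S.lift_norm (lu_val hS x)), lu_mem_su hS hx⟩

omit hvu j [Fintype (perpPair S v u)] [DecidableEq (perpPair S v u)] hN in
theorem lu_comm {x : Vec} (hx : S.E x * S.E v = S.E v * S.E x) :
    (lu hS x : Matrix (Fin 8) (Fin 8) F) * S.E v = S.E v * lu hS x :=
  cj_eq_self (S.lift_comm (lu_val hS x) hx)

theorem img_mem (w : perpPair S v u) : ∃ g ∈ img j M, ∃ c : F, (g : Matrix (Fin 4) (Fin 4) F) = c • (T).E w :=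
  ⟨j.resU (S.u w) (comm_perp w), ⟨S.u w, u_mem_M hS hN w, comm_perp w, rfl⟩, 1, by
    rw [one_smul]; rfl⟩

theorem img_lift (w : perpPair S v u) (hw : w ≠ 0) :
    ∃ g ∈ img j M, ∃ c : F, (g : Matrix (Fin 4) (Fin 4) F) = c • (T).L w :=
  ⟨j.resU (lu hS w) (lu_comm hS (comm_perp w)),
    ⟨lu hS w, lu_mem_M hS hN (fun e => hw (Subtype.ext e)), lu_comm hS (comm_perp w), rfl⟩, (1 + S.i)⁻¹, by
    rw [Emb.resU_val, lu_val, j.res_smul, Sys.L, j.res_add, Emb.res_one, j.res_smul]; rfl⟩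

include hMI

omit hN [Fintype (perpPair S v u)] [DecidableEq (perpPair S v u)] in
theorem img_GU {h : GL (Fin 4) F} (hh : h ∈ img j M) : h ∈ Cfsg.GU 4 F p := by
  obtain ⟨g, hg, hc, rfl⟩ := hh
  exact j.resU_mem hc (hMI hg).1

theorem grp_unit : grp T ≤ Cfsg.GU 4 F p := by
  rintro g ⟨c, w, hc, hg⟩
  have hf := UTv.isUnitaryForm hS.card (n := 4)
  have hres := j.resU_mem (g := S.u w) (comm_perp w) (hS.unit w)
  refine UTv.mem_GU.2 fun a b => ?_
  have h := UTv.mem_GU.1 hres a b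
  change Cfsg.hermForm 4 F p ((T).E w *ᵥ a) ((T).E w *ᵥ b) = _ at h
  rw [hg, Matrix.smul_mulVec, Matrix.smul_mulVec, hf.smul_left, Unit.smul_right hf, UTv.frobEquiv_apply hS.card,
    ← mul_assoc, hS.root_phase hc, one_mul, h]

theorem block_max [Fact p.Prime] :
    IsMaximalIn (suGL 4 F p) (subgroupNormalizer (grp T) ⊓ suGL 4 F p) := by
  haveI : CharP F p := by
    haveI := Fintype.ofFinite F
    obtain ⟨r, hr⟩ := CharP.exists F
    obtain ⟨⟨m, hm⟩, hrp, hcard⟩ := FiniteField.card F r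
    rw [← Nat.card_eq_fintype_card, hS.card] at hcard
    have hd : r ∣ p := hrp.dvd_of_dvd_pow (hcard ▸ dvd_pow_self r (Nat.pos_iff_ne_zero.1 hm))
    obtain rfl := (Nat.prime_dvd_prime_iff_eq hrp hS.prime).1 hd
    exact hr
  letI := ZMod.algebra F p
  refine SUFour.unitary_pauli_maximal_sym hS.card hS.mod4 (i := S.i) ?_ (grp_unit hS hvu j hN hMI)
  refine ⟨S.two, S.sq_i, fun A h => (T).eq_scalar A fun x => (h ((T).u x) (u_mem_grp T x)).symm,
    fun c hc => ?_, ?_, ?_, ?_⟩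
  · exact ⟨⟨c • 1, c ^ 3 • 1, by rw [smul_mul_smul_comm, ← pow_succ', hc, mul_one, one_smul],
      by rw [smul_mul_smul_comm, ← pow_succ, hc, mul_one, one_smul]⟩, ⟨c, 0, hc, by rw [(T).E_zero]⟩, rfl⟩
  · rintro g ⟨c, x, -, hx⟩ h ⟨d, y, -, hy⟩
    rw [hx, hy, smul_mul_smul_comm, smul_mul_smul_comm, mul_comm d c, (T).E_comm y x]
    rcases bit_cases ((T).B y x) with e | e
    · exact Or.inl (by rw [e, sgn_zero, one_smul])
    · exact Or.inr (by rw [e, sgn_one, neg_one_smul, smul_neg])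
  · rw [card_grp, ← Nat.card_eq_fintype_card, card_perpPair hvu]
  · rintro g ⟨c, x, hc, hx⟩
    refine Units.ext ?_
    rw [Units.val_pow_eq_pow_val, hx, smul_pow, hc, one_smul, pow_succ, pow_succ, pow_two, (T).E_sq,
      one_mul, (T).E_sq, Units.val_one]

/-- A witness against normalising puts every element of the special unitary group of the fixed space into the
image up to scalars. -/
theorem su_le_imgS [Fact p.Prime] {h₀ : GL (Fin 4) F} (hh₀ : h₀ ∈ img j M) (hbad : ¬ (T).Norm h₀) :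
    suGL 4 F p ≤ imgS j M := by
  have hN4 : subgroupNormalizer (grp T) ⊓ suGL 4 F p ≤ imgS j M ⊓ suGL 4 F p := fun g hg => by
    obtain ⟨k, hk, c, hc, e⟩ := Sys.exists_factor (S := T) (img_mem hS hvu j hN)
      (img_lift hS hvu j hN) (norm_of_normalizer T hg.1)
    exact ⟨(mem_imgS j).2 ⟨k, hk, c, hc, e⟩, hg.2⟩
  rcases (block_max hS hvu j hN hMI).2 _ hN4 inf_le_right with h | h
  swap
  · exact fun g hg => ((le_of_eq h.symm) hg).1
  exfalso
  refine hbad ?_
  have key : ∀ {g : GL (Fin 4) F}, g ∈ img j M → ∀ {k : GL (Fin 4) F}, k ∈ img j M → (T).Norm k →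
      (T).Norm (g * k * g⁻¹) := by
    intro g hg k hk hkn
    refine norm_commutator T hkn (norm_of_normalizer T ?_)
    have h1 : g * k * g⁻¹ * k⁻¹ ∈ imgS j M :=
      (mem_imgS j).2 ⟨_, mul_mem (mul_mem (mul_mem hg hk) (inv_mem hg)) (inv_mem hk), 1, one_ne_zero,
        (one_smul _ _).symm⟩
    have h2 : g * k * g⁻¹ * k⁻¹ ∈ Cfsg.GU 4 F p :=
      mul_mem (mul_mem (mul_mem (img_GU hS j hMI hg) (img_GU hS j hMI hk)) (inv_mem (img_GU hS j hMI hg)))
        (inv_mem (img_GU hS j hMI hk))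
    have h3 : g * k * g⁻¹ * k⁻¹ ∈ specialLinear (Fin 4) F := by
      refine MonoidHom.mem_ker.2 ?_
      simp only [map_mul, map_inv]
      rw [mul_right_comm (Matrix.GeneralLinearGroup.det g), mul_inv_cancel, one_mul, mul_inv_cancel]
    have hmem : g * k * g⁻¹ * k⁻¹ ∈ imgS j M ⊓ suGL 4 F p := ⟨h1, h2, h3⟩
    rw [h] at hmem
    exact hmem.1
  refine Sys.norm_of_conj (S := T) (fun w => ?_) fun w hw => ?_
  · obtain ⟨k, hk, c, hc⟩ := img_mem hS hvu j hN w
    have hn := key hh₀ hk ((T).norm_of_isP ⟨c, w, hc⟩)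
    refine (T).norm_of_proj ?_ hn
    simp only [map_mul, proj_eq_of_smul ((T).coeff_val hc) (g := k) (h := (T).u w) hc]
  · obtain ⟨k, hk, c, hc⟩ := img_lift hS hvu j hN w hw
    refine ⟨k, c, hc, ?_⟩
    have hn := key (inv_mem hh₀) hk ((T).lift_norm hc)
    rwa [inv_inv] at hn

/-- A witness puts the special unitary group of the fixed space into the image. -/
theorem su_le_img [Fact p.Prime] {h₀ : GL (Fin 4) F} (hh₀ : h₀ ∈ img j M) (hbad : ¬ (T).Norm h₀) :
    suGL 4 F p ≤ img j M := by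
  have hp := hS.prime.two_le
  refine suGL_le_of_comap (eq_top_iff.2 ?_)
  rw [← CfsgLib.Unitary.commutator_SU_eq_top hS.card (n := 4) (by norm_num) (by omega), commutator_def,
    Subgroup.commutator_le]
  intro a _ b _
  set φ := Matrix.SpecialLinearGroup.toGL.comp (Cfsg.SU 4 F p).subtype
  have hmem : ∀ a, φ a ∈ imgS j M := fun a => su_le_imgS hS hvu j hN hMI hh₀ hbad (suToGL_mem a)
  obtain ⟨x, hx, c, hc, ex⟩ := (mem_imgS j).1 (hmem a)
  obtain ⟨y, hy, d, hd, ey⟩ := (mem_imgS j).1 (hmem b)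
  rw [Subgroup.mem_comap, map_commutatorElement]
  have hcx : ∀ {g x : GL (Fin 4) F} {c : F}, c ≠ 0 → (g : Matrix (Fin 4) (Fin 4) F) = c • (x : Matrix (Fin 4) (Fin 4) F) →
      ∃ z : GL (Fin 4) F, (∀ y, z * y = y * z) ∧ g = z * x := fun {g x c} hc e =>
    ⟨g * x⁻¹, fun y => Units.ext (by
      rw [Units.val_mul, Units.val_mul y, Units.val_mul, e, smul_mul_assoc, Units.mul_inv, smul_mul_assoc, one_mul,
        mul_smul_comm, mul_one]), by group⟩
  obtain ⟨z, hz, hza⟩ := hcx hc ex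
  obtain ⟨z', hz', hzb⟩ := hcx hd ey
  have : ⁅φ a, φ b⁆ = ⁅x, y⁆ := by
    have h1 : z⁻¹ * y = y * z⁻¹ := (Commute.inv_left (hz y) : Commute z⁻¹ y).eq
    rw [hza, hzb, commutatorElement_def, commutatorElement_def, _root_.mul_inv_rev, _root_.mul_inv_rev]
    calc z * x * (z' * y) * (x⁻¹ * z⁻¹) * (y⁻¹ * z'⁻¹)
        = z * (x * z') * (y * (x⁻¹ * z⁻¹)) * (y⁻¹ * z'⁻¹) := by simp only [mul_assoc]
      _ = z * (z' * x) * (y * (z⁻¹ * x⁻¹)) * (y⁻¹ * z'⁻¹) := by
          rw [← hz' x, (Commute.inv_left (hz x⁻¹) : Commute z⁻¹ x⁻¹).eq]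
      _ = (z * z') * x * (z⁻¹ * y) * x⁻¹ * (y⁻¹ * z'⁻¹) := by rw [h1]; simp only [mul_assoc]
      _ = (z * z' * z⁻¹) * (x * y * x⁻¹ * y⁻¹) * z'⁻¹ := by
          rw [mul_assoc (z * z') x, ← mul_assoc x z⁻¹, ← (Commute.inv_left (hz x) : Commute z⁻¹ x).eq]
          simp only [mul_assoc]
      _ = _ := by
          rw [hz z', mul_inv_cancel_right, hz' (x * y * x⁻¹ * y⁻¹), mul_inv_cancel_right]
  rw [this]
  exact mul_mem (mul_mem (mul_mem hx hy) (inv_mem hx)) (inv_mem hy)

/-- The elements induced by members of `M` which fix the negated vectors. -/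
def fixed (M : Subgroup (GL (Fin 8) F)) : Subgroup (GL (Fin 4) F) where
  carrier := {h | ∃ g ∈ M, ∃ hc : (g : Matrix (Fin 8) (Fin 8) F) * S.E v = S.E v * g, j.resU g hc = h ∧
    ∀ z, S.E v *ᵥ z = -z → (g : Matrix (Fin 8) (Fin 8) F) *ᵥ z = z}
  one_mem' := ⟨1, M.one_mem, by simp, Units.ext (by simp), fun z _ => by simp⟩
  mul_mem' {a b} ha hb := by
    obtain ⟨g, hg, hc, rfl, hgz⟩ := ha
    obtain ⟨k, hk, hd, rfl, hkz⟩ := hb
    exact ⟨g * k, M.mul_mem hg hk, (Commute.mul_left hc hd : Commute _ (S.E v)).eq,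
      Units.ext (by simp [j.res_mul hd]), fun z hz => by rw [mul_mulVec, hkz z hz, hgz z hz]⟩
  inv_mem' {a} ha := by
    obtain ⟨g, hg, hc, rfl, hgz⟩ := ha
    exact ⟨g⁻¹, M.inv_mem hg, (Commute.units_inv_left (a := S.E v) hc).eq, Units.ext rfl,
      fun z hz => by conv_lhs => rw [← hgz z hz, inv_mulVec_mulVec]⟩

omit hvu [Fintype (perpPair S v u)] [DecidableEq (perpPair S v u)] hS hN hMI in
theorem neg_preserved {g : GL (Fin 8) F} (hg : (g : Matrix (Fin 8) (Fin 8) F) * S.E v = S.E v * g)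
    {z : Fin 8 → F} (hz : S.E v *ᵥ z = -z) :
    S.E v *ᵥ ((g : Matrix (Fin 8) (Fin 8) F) *ᵥ z) = -((g : Matrix (Fin 8) (Fin 8) F) *ᵥ z) := by
  rw [Matrix.mulVec_mulVec, ← hg, ← Matrix.mulVec_mulVec, hz, Matrix.mulVec_neg]

omit hvu [Fintype (perpPair S v u)] [DecidableEq (perpPair S v u)] hS hN hMI in
theorem fixed_conj {a b : GL (Fin 4) F} (ha : a ∈ fixed j M) (hb : b ∈ img j M) : b * a * b⁻¹ ∈ fixed j M := by
  obtain ⟨g, hg, hc, rfl, hgz⟩ := ha
  obtain ⟨k, hk, hd, rfl⟩ := hb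
  have hki := (Commute.units_inv_left (a := S.E v) hd).eq
  refine ⟨k * g * k⁻¹, mul_mem (mul_mem hk hg) (inv_mem hk),
    ((Commute.mul_left (Commute.mul_left hd hc) hki : Commute _ (S.E v))).eq, Units.ext ?_, fun z hz => ?_⟩
  · simp only [Emb.resU_val, Units.val_mul]
    rw [j.res_mul hki, j.res_mul hc]
    rfl
  · rw [mul_mulVec, mul_mulVec, hgz _ (neg_preserved hki hz), mulVec_inv_mulVec]

/-- A witness puts the special unitary group of the fixed space into the elements fixing the negated vectors. -/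
theorem su_le_fixed [Fact p.Prime] {h₀ : GL (Fin 4) F} (hh₀ : h₀ ∈ img j M) (hbad : ¬ (T).Norm h₀) :
    suGL 4 F p ≤ fixed j M := by
  classical
  have hp := hS.prime.two_le
  have hsu := su_le_img hS hvu j hN hMI hh₀ hbad
  -- a monomial of the fixed space and one anticommuting with it
  obtain ⟨w, hw⟩ : ∃ w : perpPair S v u, w ≠ 0 := by
    by_contra hcon
    push Not at hcon
    have := card_perpPair (S := S) hvu
    haveI : Subsingleton (perpPair S v u) := ⟨fun a b => (hcon a).trans (hcon b).symm⟩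
    have := Finite.card_le_one_iff_subsingleton.2 (inferInstance : Subsingleton (perpPair S v u))
    omega
  obtain ⟨b, hb⟩ := (T).B_nondeg w hw
  have hwV : (w : Vec) ≠ 0 := fun e => hw (Subtype.ext e)
  have hwv : (w : Vec) + v ≠ 0 := fun e => by
    have h := hb
    change S.B (w : Vec) b = 1 at h
    rw [S.eq_of_add_eq_zero e, S.B_symm, b.2.1] at h
    exact zero_ne_one h
  obtain ⟨e, he0, he⟩ := S.E_mul_ne (w : Vec) v
  have he2 : e = 1 ∨ e = -1 := by
    have h := congrArg (fun A => A * A) he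
    simp only [smul_mul_smul_comm, S.E_sq] at h
    rw [mul_assoc, ← mul_assoc (S.E v), ← comm_perp w, mul_assoc (S.E (w : Vec)) (S.E v), S.E_sq, mul_one,
      S.E_sq] at h
    exact mul_self_eq_one_iff.1 (smul_left_injective F S.one_ne (((one_smul F _).trans h).symm))
  -- an element acting as a monomial on the fixed space and as a scalar on the negated vectors
  obtain ⟨d, hdM, hdc, r, hr0, hdv⟩ : ∃ d ∈ M, ∃ hdc : (d : Matrix (Fin 8) (Fin 8) F) * S.E v = S.E v * d,
      ∃ r : F, r ≠ 0 ∧ (d : Matrix (Fin 8) (Fin 8) F) =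
        r • ((1 + S.i • S.E (w : Vec)) * (1 + S.i • (S.E (w : Vec) * S.E v))) := by
    have hcv : S.E ((w : Vec) + v) * S.E v = S.E v * S.E ((w : Vec) + v) :=
      comm_of_B (by rw [S.B_add', S.B_self, add_zero, S.B_symm, w.2.1])
    rcases he2 with rfl | rfl
    · refine ⟨lu hS w * lu hS ((w : Vec) + v), mul_mem (lu_mem_M hS hN hwV) (lu_mem_M hS hN hwv),
        (Commute.mul_left (lu_comm hS (comm_perp w)) (lu_comm hS hcv) : Commute _ (S.E v)).eq,
        (1 + S.i)⁻¹ * (1 + S.i)⁻¹, mul_ne_zero (inv_ne_zero one_add_i_ne) (inv_ne_zero one_add_i_ne), ?_⟩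
      rw [Units.val_mul, lu_val, lu_val, smul_mul_smul_comm, he, one_smul, Sys.L, Sys.L]
    · refine ⟨lu hS w * (lu hS ((w : Vec) + v))⁻¹,
        mul_mem (lu_mem_M hS hN hwV) (inv_mem (lu_mem_M hS hN hwv)),
        (Commute.mul_left (lu_comm hS (comm_perp w))
          (Commute.units_inv_left (a := S.E v) (lu_comm hS hcv)) : Commute _ (S.E v)).eq,
        (1 + S.i)⁻¹ * (1 - S.i)⁻¹, mul_ne_zero (inv_ne_zero one_add_i_ne) (inv_ne_zero one_sub_i_ne), ?_⟩
      rw [Units.val_mul, lu_val, lu_inv_val, smul_mul_smul_comm, he, Sys.L, neg_one_smul, smul_neg,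
        ← sub_eq_add_neg]
  have hneg : ∀ z, S.E v *ᵥ z = -z → (d : Matrix (Fin 8) (Fin 8) F) *ᵥ z = (2 * r) • z := fun z hz => by
    have hPP : S.E (w : Vec) *ᵥ (S.E (w : Vec) *ᵥ z) = z := by
      rw [Matrix.mulVec_mulVec, S.E_sq, Matrix.one_mulVec]
    have hin : (1 + S.i • (S.E (w : Vec) * S.E v)) *ᵥ z = z + (-S.i) • (S.E (w : Vec) *ᵥ z) := by
      rw [Matrix.add_mulVec, Matrix.one_mulVec, Matrix.smul_mulVec, ← Matrix.mulVec_mulVec, hz, Matrix.mulVec_neg,
        smul_neg, neg_smul]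
    have hout : (1 + S.i • S.E (w : Vec)) *ᵥ (z + (-S.i) • (S.E (w : Vec) *ᵥ z)) = (2 : F) • z := by
      rw [Matrix.add_mulVec, Matrix.one_mulVec, Matrix.smul_mulVec, Matrix.mulVec_add, Matrix.mulVec_smul, hPP,
        smul_add, smul_smul, mul_neg, S.sq_i]
      module
    rw [hdv, Matrix.smul_mulVec, ← Matrix.mulVec_mulVec, hin, hout, smul_smul, mul_comm]
  have hres : j.res (d : Matrix (Fin 8) (Fin 8) F) = (2 * S.i * r) • (T).E w := by
    rw [hdv, j.res_smul, j.res_mul (by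
      rw [add_mul, mul_add, one_mul, mul_one, smul_mul_assoc, mul_smul_comm,
        (Commute.mul_left (comm_perp w) (comm_of_B (S.B_self v)) : Commute _ (S.E v)).eq]),
      j.res_add, j.res_add, Emb.res_one, j.res_smul, j.res_smul, j.res_mul (comm_of_B (S.B_self v)), j.res_A S.two,
      mul_one, ← subSys_E hvu j, show (1 + S.i • (T).E w) * (1 + S.i • (T).E w) = (T).L w * (T).L w from rfl,
      (T).L_sq, smul_smul]
    congr 1
    show r * (2 * S.i) = _
    ring
  set P := j.resU d hdc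
  have hP : (P : Matrix (Fin 4) (Fin 4) F) = (2 * S.i * r) • (T).E w := hres
  have hcomm : ∀ h ∈ img j M, h * P * h⁻¹ * P⁻¹ ∈ fixed j M := by
    rintro h ⟨g, hg, hc, rfl⟩
    have hgi := (Commute.units_inv_left (a := S.E v) hc).eq
    have hdi := (Commute.units_inv_left (a := S.E v) hdc).eq
    refine ⟨g * d * g⁻¹ * d⁻¹, mul_mem (mul_mem (mul_mem hg hdM) (inv_mem hg)) (inv_mem hdM),
      (Commute.mul_left (Commute.mul_left (Commute.mul_left hc hdc) hgi) hdi : Commute _ (S.E v)).eq,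
      Units.ext ?_, fun z hz => ?_⟩
    · simp only [Emb.resU_val, Units.val_mul]
      rw [j.res_mul hdi, j.res_mul hgi, j.res_mul hdc]
      rfl
    · rw [mul_mulVec, mul_mulVec, mul_mulVec, hneg _ (neg_preserved hgi (neg_preserved hdi hz)),
        Matrix.mulVec_smul, mulVec_inv_mulVec, ← Matrix.mulVec_smul, ← hneg _ hz,
        inv_mulVec_mulVec]
  set φ := Matrix.SpecialLinearGroup.toGL.comp (Cfsg.SU 4 F p).subtype with hφ
  have hφinj : Function.Injective φ :=
    Matrix.SpecialLinearGroup.toGL_injective.comp (Subgroup.subtype_injective _)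
  set N := (fixed j M).comap φ
  have hNn : N.Normal := ⟨fun a ha g => by
    rw [Subgroup.mem_comap, map_mul, map_mul, map_inv]
    exact fixed_conj j ha (hsu (suToGL_mem g))⟩
  rcases normal_su hS.card (n := 4) (by norm_num) (by omega) N hNn with hc | hc
  swap
  · exact suGL_le_of_comap hc
  exfalso
  -- commuting with the whole group
  have hdet : ∀ g : Cfsg.SU 4 F p, φ g * P * (φ g)⁻¹ * P⁻¹ ∈ suGL 4 F p := fun g => by
    have hP' : P ∈ Cfsg.GU 4 F p := j.resU_mem hdc (hMI hdM).1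
    have hg' : φ g ∈ Cfsg.GU 4 F p := (suToGL_mem g).1
    have h1 : φ g * P * (φ g)⁻¹ * P⁻¹ ∈ Cfsg.GU 4 F p :=
      mul_mem (mul_mem (mul_mem hg' hP') (inv_mem hg')) (inv_mem hP')
    refine ⟨h1, MonoidHom.mem_ker.2 ?_⟩
    simp only [map_mul, map_inv]
    rw [mul_right_comm (Matrix.GeneralLinearGroup.det (φ g)), mul_inv_cancel, one_mul, mul_inv_cancel]
  have hpre : ∀ g, ∃ g' : Cfsg.SU 4 F p, φ g' = φ g * P * (φ g)⁻¹ * P⁻¹ ∧ g' ∈ Subgroup.center _ := fun g => by
    let g' : Cfsg.SU 4 F p := ⟨⟨((φ g * P * (φ g)⁻¹ * P⁻¹ : GL (Fin 4) F) : Matrix (Fin 4) (Fin 4) F),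
      mem_specialLinear.1 (hdet g).2⟩, fun a b => herm_mulVec (hdet g) a b⟩
    have e : φ g' = φ g * P * (φ g)⁻¹ * P⁻¹ := Units.ext rfl
    refine ⟨g', e, hc (Subgroup.mem_comap.2 ?_)⟩
    rw [e]
    exact hcomm _ (hsu (suToGL_mem g))
  choose κ hκ hκc using hpre
  let Φ : Cfsg.SU 4 F p →* Subgroup.center (Cfsg.SU 4 F p) :=
    MonoidHom.mk' (fun g => ⟨κ g, hκc g⟩) fun a b => Subtype.ext (hφinj (by
      show φ (κ (a * b)) = φ (κ a * κ b)
      have hcen : φ (κ b) * φ a = φ a * φ (κ b) := by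
        rw [← map_mul, ← map_mul, (Subgroup.mem_center_iff.1 (hκc b) a)]
      rw [hκ, map_mul, map_mul]
      calc φ a * φ b * P * (φ a * φ b)⁻¹ * P⁻¹ = φ a * φ (κ b) * (P * (φ a)⁻¹ * P⁻¹) := by rw [hκ]; group
        _ = φ (κ b) * φ (κ a) := by rw [← hcen, hκ a]; group
        _ = _ := by rw [← map_mul, ← map_mul, (Subgroup.mem_center_iff.1 (hκc b) (κ a))]))
  have hΦ : ∀ g, κ g = 1 := fun g => by
    have hle : commutator (Cfsg.SU 4 F p) ≤ Φ.ker := by
      rw [commutator_def, Subgroup.commutator_le]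
      intro a _ b _
      rw [MonoidHom.mem_ker, map_commutatorElement, commutatorElement_eq_one_iff_commute]
      exact Subtype.ext (Subgroup.mem_center_iff.1 (hκc b) (κ a))
    rw [CfsgLib.Unitary.commutator_SU_eq_top hS.card (n := 4) (by norm_num) (by omega)] at hle
    exact congrArg Subtype.val (MonoidHom.mem_ker.1 (hle (Subgroup.mem_top g)))
  have hall : ∀ h ∈ suGL 4 F p, cj h ((T).E w) = (T).E w := fun h hh => by
    let g : Cfsg.SU 4 F p :=
      ⟨⟨(h : Matrix (Fin 4) (Fin 4) F), mem_specialLinear.1 hh.2⟩, fun a b => herm_mulVec hh a b⟩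
    have e : φ g = h := Units.ext rfl
    have h1 := hκ g
    rw [hΦ, map_one, e, eq_comm, mul_inv_eq_one] at h1
    have h2 : cj h (P : Matrix (Fin 4) (Fin 4) F) = P := by rw [cj_coe, h1]
    rw [hP, cj_smul] at h2
    refine smul_right_injective _ (mul_ne_zero (mul_ne_zero S.two fun e => ?_) hr0) h2
    have := S.sq_i; rw [e, mul_zero] at this; exact one_ne_zero (neg_eq_zero.1 this.symm)
  -- an anticommuting element of the group
  obtain ⟨c, hc⟩ := (T).B_nondeg b fun e => by rw [e, Sys.B_zero'] at hb; exact zero_ne_one hb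
  obtain ⟨kb, hkb, tb, htb⟩ := img_lift hS hvu j hN b fun e => by rw [e, Sys.B_zero'] at hb; exact zero_ne_one hb
  obtain ⟨kc, hkc, tc, htc⟩ := img_mem hS hvu j hN c
  set K := kb * kc * kb⁻¹ * kc⁻¹
  have hKsu : K ∈ suGL 4 F p := by
    have h1 : K ∈ Cfsg.GU 4 F p :=
      mul_mem (mul_mem (mul_mem (img_GU hS j hMI hkb) (img_GU hS j hMI hkc)) (inv_mem (img_GU hS j hMI hkb)))
        (inv_mem (img_GU hS j hMI hkc))
    refine ⟨h1, MonoidHom.mem_ker.2 ?_⟩
    simp only [K, map_mul, map_inv]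
    rw [mul_right_comm (Matrix.GeneralLinearGroup.det kb), mul_inv_cancel, one_mul, mul_inv_cancel]
  have hK : (K : Matrix (Fin 4) (Fin 4) F) = S.i • (T).E b := by
    have htc0 := (T).coeff_val htc
    have hkci : (kc⁻¹ : GL (Fin 4) F).val = tc⁻¹ • (T).E c := Units.inv_eq_of_mul_eq_one_right (by
      rw [htc, smul_mul_smul_comm, mul_inv_cancel₀ htc0, (T).E_sq, one_smul])
    rw [Units.val_mul, Units.val_mul, Units.val_mul, hkci]
    show cj kb (kc : Matrix (Fin 4) (Fin 4) F) * _ = _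
    rw [htc, cj_smul, (T).lift_anti htb (by rw [(T).E_comm c b, (T).B_symm, hc, sgn_one, neg_one_smul]),
      smul_mul_smul_comm, smul_mul_assoc, mul_assoc, (T).E_sq, mul_one, smul_smul]
    congr 1
    show tc * tc⁻¹ * S.i = S.i
    rw [mul_inv_cancel₀ htc0, one_mul]
  have hfin := hall K hKsu
  rw [cj_of_smul (h := (T).u b) hK, (T).cj_u, (T).B_symm, hb, sgn_one, neg_one_smul] at hfin
  have h0 : (T).E w = 0 := by
    have : (2 : F) • (T).E w = 0 := by rw [two_smul]; nth_rewrite 1 [← hfin]; exact neg_add_cancel _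
    exact (smul_eq_zero.1 this).resolve_left S.two
  have := congrArg ((T).coef w) h0
  rw [(T).coef_E, if_pos rfl, map_zero] at this
  exact one_ne_zero this

/-- A witness makes every isotropic vector of the fixed space full. -/
theorem full_fixed [Fact p.Prime] {h₀ : GL (Fin 4) F} (hh₀ : h₀ ∈ img j M) (hbad : ¬ (T).Norm h₀)
    {z : Fin 8 → F} (hz : S.E v *ᵥ z = z) (hzz : Cfsg.hermForm 8 F p z z = 0) : Full p M z := by
  refine full_of_mem hS.card hzz fun c hc => ?_
  set a := j.Jd *ᵥ z with ha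
  have hza : z = j.J *ᵥ a := j.mem_range S.two hz
  have haa : Cfsg.hermForm 4 F p a a = 0 := by rw [← j.iso, ← hza, hzz]
  obtain ⟨g, hg, hgc, hgres, hgz⟩ :=
    su_le_fixed hS hvu j hN hMI hh₀ hbad (utv_mem hS.card haa hc)
  convert hg using 1
  refine gl_ext_mulVec fun x => ?_
  have hvv : S.E v *ᵥ (S.E v *ᵥ x) = x := by rw [Matrix.mulVec_mulVec, S.E_sq, Matrix.one_mulVec]
  set x₁ := (2 : F)⁻¹ • (x + S.E v *ᵥ x) with hx₁
  set x₂ := (2 : F)⁻¹ • (x - S.E v *ᵥ x) with hx₂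
  have h1 : S.E v *ᵥ x₁ = x₁ := by rw [hx₁, Matrix.mulVec_smul, Matrix.mulVec_add, hvv, add_comm]
  have h2 : S.E v *ᵥ x₂ = -x₂ := by rw [hx₂, Matrix.mulVec_smul, Matrix.mulVec_sub, hvv, ← smul_neg, neg_sub]
  have hx : x = x₁ + x₂ := by
    rw [hx₁, hx₂, ← smul_add, show x + S.E v *ᵥ x + (x - S.E v *ᵥ x) = (2 : F) • x by module, smul_smul,
      inv_mul_cancel₀ S.two, one_smul]
  have e2 : Cfsg.hermForm 8 F p x₂ z = 0 := by
    rw [(UTv.isUnitaryForm hS.card).herm,
      herm_fixed_neg hS.card (hS.unit v) S.two (x := z) (y := x₂) hz h2, map_zero]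
  rw [hx, Matrix.mulVec_add, Matrix.mulVec_add, hgz x₂ h2, utv_mulVec hS.card hzz, utv_mulVec hS.card hzz, e2,
    mul_zero, zero_smul, add_zero]
  congr 1
  obtain ⟨y, hy⟩ : ∃ y, x₁ = j.J *ᵥ y := ⟨_, j.mem_range S.two h1⟩
  rw [hy, Matrix.mulVec_mulVec, j.comm_J hgc, ← Matrix.mulVec_mulVec, ← Emb.resU_val j g hgc, hgres,
    utv_mulVec hS.card haa, Matrix.mulVec_add, Matrix.mulVec_smul, ← hza]
  congr 2
  conv_lhs => rw [hza, j.iso]

end sub

end CfsgLib.Geo.SUEight
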