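import Cfsg.Agent.Geo.PauliEight.Sys
import Cfsg.Agent.Geo.UnitTv
import Cfsg.Agent.Unitary.Decompose

/-!
Orthonormal coordinates on the fixed space of a monomial isometry in dimension eight.
-/

set_option autoImplicit false
set_option linter.unusedSectionVars false

namespace CfsgLib.Geo.SUEight

open Matrix Cfsg Cfsg.Geo CfsgLib.Geo.UTv CfsgLib.Geo.PauliEight

variable {F : Type*} [Field F] {p : ℕ}

/-- Coordinates on the fixed space of an involution: an isometric embedding and its adjoint. -/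
structure Emb (p : ℕ) (A : Matrix (Fin 8) (Fin 8) F) where
  J : Matrix (Fin 8) (Fin 4) F
  Jd : Matrix (Fin 4) (Fin 8) F
  dJ : Jd * J = 1
  JJd : J * Jd = (2 : F)⁻¹ • (1 + A)
  adj : ∀ (x : Fin 4 → F) (y : Fin 8 → F),
    Cfsg.hermForm 8 F p (J *ᵥ x) y = Cfsg.hermForm 4 F p x (Jd *ᵥ y)

namespace Emb

variable {A : Matrix (Fin 8) (Fin 8) F} (j : Emb p A)

/-- The matrix induced on the fixed space. -/
def res (X : Matrix (Fin 8) (Fin 8) F) : Matrix (Fin 4) (Fin 4) F := j.Jd * X * j.J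

theorem iso (x y : Fin 4 → F) :
    Cfsg.hermForm 8 F p (j.J *ᵥ x) (j.J *ᵥ y) = Cfsg.hermForm 4 F p x y := by
  rw [j.adj, Matrix.mulVec_mulVec, j.dJ, Matrix.one_mulVec]

variable (h2 : (2 : F) ≠ 0)
include h2

theorem A_J : A * j.J = j.J := by
  have h : j.J * j.Jd * j.J = j.J := by rw [Matrix.mul_assoc, j.dJ, Matrix.mul_one]
  rw [j.JJd, Matrix.smul_mul, Matrix.add_mul, Matrix.one_mul] at h
  have h' := congrArg ((2 : F) • ·) h
  simp only [smul_smul, mul_inv_cancel₀ h2, one_smul, two_smul] at h'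
  exact add_left_cancel h'

theorem Jd_A : j.Jd * A = j.Jd := by
  have h : j.Jd * (j.J * j.Jd) = j.Jd := by rw [← Matrix.mul_assoc, j.dJ, Matrix.one_mul]
  rw [j.JJd, Matrix.mul_smul, Matrix.mul_add, Matrix.mul_one] at h
  have h' := congrArg ((2 : F) • ·) h
  simp only [smul_smul, mul_inv_cancel₀ h2, one_smul, two_smul] at h'
  exact add_left_cancel h'

omit h2 in
theorem mul_J {X : Matrix (Fin 8) (Fin 8) F} (hX : X * A = A * X) : j.J * j.Jd * X = X * (j.J * j.Jd) := by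
  rw [j.JJd, Matrix.smul_mul, Matrix.mul_smul, Matrix.add_mul, Matrix.mul_add, Matrix.one_mul, Matrix.mul_one, hX]

omit h2 in
theorem comm_J {X : Matrix (Fin 8) (Fin 8) F} (hX : X * A = A * X) : X * j.J = j.J * j.res X := by
  rw [res, ← Matrix.mul_assoc, ← Matrix.mul_assoc, j.mul_J hX, Matrix.mul_assoc, Matrix.mul_assoc,
    j.dJ, Matrix.mul_one]

omit h2 in
theorem Jd_comm {X : Matrix (Fin 8) (Fin 8) F} (hX : X * A = A * X) : j.Jd * X = j.res X * j.Jd := by
  rw [res, Matrix.mul_assoc, Matrix.mul_assoc, ← j.mul_J hX, ← Matrix.mul_assoc, ← Matrix.mul_assoc, j.dJ,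
    Matrix.one_mul]

omit h2 in
theorem res_mul {X Y : Matrix (Fin 8) (Fin 8) F} (hY : Y * A = A * Y) : j.res (X * Y) = j.res X * j.res Y := by
  calc j.res (X * Y) = j.Jd * X * (Y * j.J) := by simp only [res, Matrix.mul_assoc]
    _ = j.Jd * X * (j.J * j.res Y) := by rw [j.comm_J hY]
    _ = _ := by simp only [res, Matrix.mul_assoc]

omit h2 in
@[simp] theorem res_one : j.res 1 = 1 := by simp [res, j.dJ]

omit h2 in
theorem res_smul (c : F) (X : Matrix (Fin 8) (Fin 8) F) : j.res (c • X) = c • j.res X := by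
  simp [res, Matrix.mul_smul, Matrix.smul_mul]

omit h2 in
theorem res_add (X Y : Matrix (Fin 8) (Fin 8) F) : j.res (X + Y) = j.res X + j.res Y := by
  simp [res, Matrix.mul_add, Matrix.add_mul]

theorem res_A : j.res A = 1 := by rw [res, Matrix.mul_assoc, j.A_J h2, j.dJ]

theorem mem_range {z : Fin 8 → F} (hz : A *ᵥ z = z) : z = j.J *ᵥ (j.Jd *ᵥ z) := by
  rw [Matrix.mulVec_mulVec, j.JJd, Matrix.smul_mulVec, Matrix.add_mulVec, Matrix.one_mulVec, hz, ← two_smul F,
    smul_smul, inv_mul_cancel₀ h2, one_smul]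

theorem J_fixed (x : Fin 4 → F) : A *ᵥ (j.J *ᵥ x) = j.J *ᵥ x := by
  rw [Matrix.mulVec_mulVec, j.A_J h2]

theorem Jd_of_neg {z : Fin 8 → F} (hz : A *ᵥ z = -z) : j.Jd *ᵥ z = 0 := by
  have h : j.Jd *ᵥ z = j.Jd *ᵥ (A *ᵥ z) := by rw [Matrix.mulVec_mulVec, j.Jd_A h2]
  rw [hz, Matrix.mulVec_neg, eq_neg_iff_add_eq_zero, ← two_smul F, smul_eq_zero] at h
  exact h.resolve_left h2

omit h2

/-- The element induced on the fixed space. -/
def resU (g : GL (Fin 8) F) (h : (g : Matrix (Fin 8) (Fin 8) F) * A = A * g) : GL (Fin 4) F :=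
  ⟨j.res (g : Matrix (Fin 8) (Fin 8) F), j.res ((g⁻¹ : GL (Fin 8) F) : Matrix (Fin 8) (Fin 8) F),
    by rw [← j.res_mul (Commute.units_inv_left (a := A) h).eq, Units.mul_inv, res_one],
    by rw [← j.res_mul h, Units.inv_mul, res_one]⟩

@[simp] theorem resU_val (g : GL (Fin 8) F) (h : (g : Matrix (Fin 8) (Fin 8) F) * A = A * g) :
    (j.resU g h : Matrix (Fin 4) (Fin 4) F) = j.res (g : Matrix (Fin 8) (Fin 8) F) := rfl

theorem resU_mem {g : GL (Fin 8) F} (h : (g : Matrix (Fin 8) (Fin 8) F) * A = A * g)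
    (hg : g ∈ Cfsg.GU 8 F p) : j.resU g h ∈ Cfsg.GU 4 F p := UTv.mem_GU.2 fun x y => by
  rw [← j.iso, Matrix.mulVec_mulVec, Matrix.mulVec_mulVec, resU_val, ← j.comm_J h, ← Matrix.mulVec_mulVec,
    ← Matrix.mulVec_mulVec, UTv.mem_GU.1 hg, j.iso]

end Emb

variable [Finite F] (hF : Nat.card F = p ^ 2)
include hF

/-- Fixed and negated vectors of an isometry are orthogonal. -/
theorem herm_fixed_neg {g : GL (Fin 8) F} (hg : g ∈ Cfsg.GU 8 F p) (h2 : (2 : F) ≠ 0) {x y : Fin 8 → F}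
    (hx : (g : Matrix (Fin 8) (Fin 8) F) *ᵥ x = x) (hy : (g : Matrix (Fin 8) (Fin 8) F) *ᵥ y = -y) :
    Cfsg.hermForm 8 F p x y = 0 := by
  have hf := UTv.isUnitaryForm hF (n := 8)
  have h := UTv.mem_GU.1 hg x y
  rw [hx, hy, ← neg_one_smul F y, Unit.smul_right hf, map_neg, map_one, neg_one_mul, neg_eq_iff_add_eq_zero,
    ← two_mul] at h
  exact (mul_eq_zero.1 h).resolve_left h2

/-- The fixed space of a monomial isometry has orthonormal coordinates. -/
theorem exists_emb {V : Type*} [AddCommGroup V] [Fintype V] (S : Sys (Fin 8) F V)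
    (hU : ∀ x, S.u x ∈ Cfsg.GU 8 F p) {v : V} (hv : v ≠ 0) : Nonempty (Emb p (S.E v)) := by
  classical
  obtain ⟨a, hva⟩ := S.B_nondeg v hv
  have hf := UTv.isUnitaryForm hF (n := 8)
  set Tv := Matrix.toLin' (S.E v) with hTv
  set Ta := Matrix.toLin' (S.E a) with hTa
  have haa : ∀ z, Ta (Ta z) = z := fun z => by
    simp [hTa, Matrix.toLin'_apply, Matrix.mulVec_mulVec, S.E_sq]
  have hvv : ∀ z, Tv (Tv z) = z := fun z => by
    simp [hTv, Matrix.toLin'_apply, Matrix.mulVec_mulVec, S.E_sq]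
  have hanti : ∀ z, Tv (Ta z) = -Ta (Tv z) := fun z => by
    simp only [hTv, hTa, Matrix.toLin'_apply, Matrix.mulVec_mulVec]
    rw [S.E_comm a v, S.B_symm, hva, sgn_one, neg_one_smul, Matrix.neg_mulVec]
  let U : Submodule F (Fin 8 → F) := LinearMap.ker (Tv - LinearMap.id)
  let W : Submodule F (Fin 8 → F) := LinearMap.ker (Tv + LinearMap.id)
  have hU' : ∀ {z}, z ∈ U ↔ Tv z = z := fun {z} => by simp [U, sub_eq_zero]
  have hW' : ∀ {z}, z ∈ W ↔ Tv z = -z := fun {z} => by simp [W, add_eq_zero_iff_eq_neg]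
  have horth : ∀ {x y}, x ∈ U → y ∈ W → Cfsg.hermForm 8 F p x y = 0 := fun {x y} hx hy =>
    herm_fixed_neg hF (hU v) S.two (by simpa [hTv] using hU'.1 hx) (by simpa [hTv] using hW'.1 hy)
  have hsplit : ∀ z, (2 : F)⁻¹ • (z + Tv z) ∈ U ∧ (2 : F)⁻¹ • (z - Tv z) ∈ W ∧
      (2 : F)⁻¹ • (z + Tv z) + (2 : F)⁻¹ • (z - Tv z) = z := fun z =>
    ⟨hU'.2 (by rw [map_smul, map_add, hvv, add_comm]),
      hW'.2 (by rw [map_smul, map_sub, hvv, ← smul_neg, neg_sub]),
      by rw [← smul_add, show z + Tv z + (z - Tv z) = (2 : F) • z by module, smul_smul, inv_mul_cancel₀ S.two,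
        one_smul]⟩
  have hdim : Module.finrank F U = 4 := by
    have htop : U ⊔ W = ⊤ := eq_top_iff.2 fun z _ => by
      obtain ⟨h1, h2, h3⟩ := hsplit z
      exact h3 ▸ Submodule.add_mem_sup h1 h2
    have hbot : U ⊓ W = ⊥ := eq_bot_iff.2 fun z hz => by
      have h := (hU'.1 hz.1).symm.trans (hW'.1 hz.2)
      rw [eq_neg_iff_add_eq_zero, ← two_smul F, smul_eq_zero] at h
      exact h.resolve_left S.two
    have hswap : W = U.map Ta := by
      ext z
      constructor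
      · intro hz
        exact ⟨Ta z, hU'.2 (by rw [hanti, hW'.1 hz, map_neg, neg_neg]), haa z⟩
      · rintro ⟨y, hy, rfl⟩
        exact hW'.2 (by rw [hanti, hU'.1 hy])
    have hinj : Function.Injective Ta := Function.LeftInverse.injective haa
    have h := Submodule.finrank_sup_add_finrank_inf_eq U W
    rw [htop, hbot, finrank_top, finrank_bot, Module.finrank_fin_fun, hswap,
      (Submodule.equivMapOfInjective Ta hinj U).finrank_eq.symm] at h
    omega
  have hnd : ∀ u ∈ U, (∀ w ∈ U, Cfsg.hermForm 8 F p u w = 0) → u = 0 := fun u hu h => by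
    by_contra hne
    obtain ⟨-, y, hy⟩ := hf.nondegenerate u hne
    obtain ⟨h1, h2, h3⟩ := hsplit y
    rw [← h3, Unit.add_right hf, h _ h1, horth hu h2, add_zero] at hy
    exact hy rfl
  obtain ⟨b, hb⟩ := CfsgLib.Unitary.exists_orthonormal_family hF U hdim hnd
  let J : Matrix (Fin 8) (Fin 4) F := Matrix.of fun r i => (b i : Fin 8 → F) r
  let Jd : Matrix (Fin 4) (Fin 8) F := Matrix.of fun i r => (b i : Fin 8 → F) r ^ p
  have hJ : ∀ x, J *ᵥ x = ∑ i, x i • (b i : Fin 8 → F) := fun x => funext fun r => by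
    simp [J, Matrix.mulVec, dotProduct, Finset.sum_apply, mul_comm]
  have hJd : ∀ z i, (Jd *ᵥ z) i = Cfsg.hermForm 8 F p z (b i) := fun z i => by
    simp [Jd, Matrix.mulVec, dotProduct, Cfsg.hermForm, mul_comm]
  have hsum : ∀ (x : Fin 4 → F) (y : Fin 8 → F), Cfsg.hermForm 8 F p (∑ i, x i • (b i : Fin 8 → F)) y =
      ∑ i, x i * Cfsg.hermForm 8 F p (b i) y := fun x y => by
    let φ : (Fin 8 → F) →+ F :=
      AddMonoidHom.mk' (fun a => Cfsg.hermForm 8 F p a y) fun a b => hf.add_left a b y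
    refine (map_sum φ _ _).trans (Finset.sum_congr rfl fun i _ => ?_)
    exact hf.smul_left _ _ _
  have hcol : ∀ (c : Fin 4 → F) i, (Jd *ᵥ (∑ k, c k • (b k : Fin 8 → F))) i = c i := fun c i => by
    rw [hJd, hsum, Finset.sum_eq_single i (fun k _ hk => by rw [hb, if_neg hk, mul_zero]) (by simp), hb, if_pos rfl,
      mul_one]
  refine ⟨⟨J, Jd, ?_, ?_, fun x y => ?_⟩⟩
  · refine Matrix.ext_of_mulVec_single fun k => funext fun i => ?_
    rw [← Matrix.mulVec_mulVec, hJ, hcol, Matrix.one_mulVec]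
  · refine Matrix.ext_of_mulVec_single fun k => ?_
    rw [← Matrix.mulVec_mulVec, Matrix.smul_mulVec, Matrix.add_mulVec, Matrix.one_mulVec]
    set z : Fin 8 → F := Pi.single k 1
    obtain ⟨h1, h2, h3⟩ := hsplit z
    set u := (2 : F)⁻¹ • (z + Tv z)
    have hrep : ∑ i, b.repr ⟨u, h1⟩ i • (b i : Fin 8 → F) = u := by
      have := congrArg (Subtype.val : U → Fin 8 → F) (b.sum_repr ⟨u, h1⟩)
      simpa only [Submodule.coe_sum, Submodule.coe_smul] using this
    have hzero : Jd *ᵥ ((2 : F)⁻¹ • (z - Tv z)) = 0 := funext fun i => by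
      rw [hJd, hf.herm, horth (b i).2 h2, map_zero, Pi.zero_apply]
    have hu : (2 : F)⁻¹ • (z + S.E v *ᵥ z) = u := by simp [u, hTv]
    rw [hu]
    conv_lhs => rw [← h3, Matrix.mulVec_add, hzero, add_zero, ← hrep, funext (hcol _), hJ]
    exact hrep
  · rw [hJ, hsum]
    show _ = ∑ i, x i * (Jd *ᵥ y) i ^ p
    refine Finset.sum_congr rfl fun i _ => ?_
    rw [hJd, hf.herm, UTv.frobEquiv_apply hF]

end CfsgLib.Geo.SUEight
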