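import Cfsg.Agent.Geo.SUEight.Group
import Cfsg.Agent.Geo.UnitRefl

/-!
Full isotropic vectors in the eigenspaces of all monomials put the special unitary group into the group.
-/

set_option autoImplicit false
set_option linter.unusedSectionVars false

namespace CfsgLib.Geo.SUEight

open Matrix Cfsg Cfsg.Geo CfsgLib.Geo.UTv CfsgLib.Geo.PauliEight

variable {F : Type*} [Field F] [Finite F] {p : ℕ} {S : Sys (Fin 8) F Vec} (hS : UData p S)

local notation "⟪" x ", " y "⟫" => Cfsg.hermForm 8 F p x y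

/-- The fixed space of a monomial. -/
def fixSub (S : Sys (Fin 8) F Vec) (v : Vec) : Submodule F (Fin 8 → F) :=
  LinearMap.ker (Matrix.toLin' (S.E v) - LinearMap.id)

omit [Finite F] in
theorem mem_fixSub {v : Vec} {z : Fin 8 → F} : z ∈ fixSub S v ↔ S.E v *ᵥ z = z := by
  simp [fixSub, sub_eq_zero]

include hS

theorem herm_E (x : Vec) (a b : Fin 8 → F) : ⟪S.E x *ᵥ a, S.E x *ᵥ b⟫ = ⟪a, b⟫ := by
  have := UTv.mem_GU.1 (hS.unit x) a b
  rwa [Sys.u_val] at this

omit hS [Finite F] in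
theorem E_E (x : Vec) (a : Fin 8 → F) : S.E x *ᵥ (S.E x *ᵥ a) = a := by
  rw [Matrix.mulVec_mulVec, S.E_sq, Matrix.one_mulVec]

/-- The component on the fixed space has the same products there. -/
theorem exists_fixed_part (v : Vec) (y : Fin 8 → F) :
    ∃ y' ∈ fixSub S v, ∀ x ∈ fixSub S v, ⟪x, y'⟫ = ⟪x, y⟫ := by
  have hf := UTv.isUnitaryForm hS.card (n := 8)
  refine ⟨(2 : F)⁻¹ • (y + S.E v *ᵥ y), mem_fixSub.2 (by
    rw [Matrix.mulVec_smul, Matrix.mulVec_add, E_E, add_comm]), fun x hx => ?_⟩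
  have h := herm_E hS v x y
  rw [mem_fixSub.1 hx] at h
  rw [Unit.smul_right hf, Unit.add_right hf, h, map_inv₀, map_ofNat, ← two_mul, ← mul_assoc,
    inv_mul_cancel₀ S.two, one_mul]

theorem finrank_fixSub {v : Vec} (hv : v ≠ 0) : 4 ≤ Module.finrank F (fixSub S v) := by
  obtain ⟨j⟩ := exists_emb hS.card S hS.unit hv
  let L : (Fin 4 → F) →ₗ[F] fixSub S v :=
    (Matrix.mulVecLin j.J).codRestrict _ fun x => mem_fixSub.2 (j.J_fixed S.two x)
  have hL : Function.Injective L := fun a b e => by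
    have h := congrArg (fun z => j.Jd *ᵥ z) (congrArg Subtype.val e : j.J *ᵥ a = j.J *ᵥ b)
    change j.Jd *ᵥ (j.J *ᵥ a) = j.Jd *ᵥ (j.J *ᵥ b) at h
    simpa [Matrix.mulVec_mulVec, j.dJ] using h
  have := LinearMap.finrank_le_finrank_of_injective hL
  rwa [Module.finrank_fin_fun] at this

theorem nondeg_top : IsNondegenerateOn (Cfsg.hermForm 8 F p) (⊤ : Submodule F (Fin 8 → F)) := fun x _ hx => by
  obtain ⟨⟨y, hy⟩, z, hz⟩ := (UTv.isUnitaryForm hS.card (n := 8)).nondegenerate x hx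
  exact ⟨⟨y, Submodule.mem_top, hy⟩, z, Submodule.mem_top, hz⟩

/-- A small non-degenerate subspace of the fixed space has an anisotropic vector in its complement there. -/
theorem exists_aniso {v : Vec} (hv : v ≠ 0) {W : Submodule F (Fin 8 → F)} (hW : W ≤ fixSub S v)
    (hnd : IsNondegenerateOn (Cfsg.hermForm 8 F p) W) (hlt : Module.finrank F W < 4) :
    ∃ d ∈ fixSub S v ⊓ perp p W, ⟪d, d⟫ ≠ 0 := by
  have hf := UTv.isUnitaryForm hS.card (n := 8)
  by_contra hcon
  push Not at hcon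
  have hzero := Unit.eq_zero_of_totally_isotropic hf hcon
  obtain ⟨x, hx, hxW⟩ : ∃ x ∈ fixSub S v, x ∉ W := by
    by_contra h
    push Not at h
    have := Submodule.finrank_mono (show fixSub S v ≤ W from h)
    have := finrank_fixSub hS hv
    omega
  obtain ⟨a, ha, hxa⟩ := exists_split hS.card hnd x
  set d := x - a with hd
  have hdU : d ∈ fixSub S v ⊓ perp p W := ⟨(fixSub S v).sub_mem hx (hW ha), hxa⟩
  have hd0 : d ≠ 0 := fun e => hxW (by rw [show x = a from sub_eq_zero.1 e]; exact ha)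
  obtain ⟨-, y, hy⟩ := hf.nondegenerate d hd0
  obtain ⟨y', hy', hyy⟩ := exists_fixed_part hS v y
  rw [← hyy d hdU.1] at hy
  obtain ⟨b, hb, hyb⟩ := exists_split hS.card hnd y'
  refine hy ?_
  rw [show y' = b + (y' - b) by abel, Unit.add_right hf, hdU.2 b hb,
    hzero _ hdU _ ⟨(fixSub S v).sub_mem hy' (hW hb), hyb⟩, add_zero]

omit hS in
theorem nondeg_span_pair {a b : Fin 8 → F} (h : ∀ α β : F, ⟪α • a + β • b, a⟫ = 0 → ⟪α • a + β • b, b⟫ = 0 →
    α • a + β • b = 0) (hF : Nat.card F = p ^ 2) :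
    IsNondegenerateOn (Cfsg.hermForm 8 F p) (Submodule.span F {a, b}) := by
  have hf := UTv.isUnitaryForm hF (n := 8)
  intro x hx hx0
  obtain ⟨α, β, rfl⟩ := Submodule.mem_span_pair.1 hx
  rcases em (⟪α • a + β • b, a⟫ = 0) with h1 | h1
  · have h2 : ⟪α • a + β • b, b⟫ ≠ 0 := fun h2 => hx0 (h α β h1 h2)
    exact ⟨⟨b, Submodule.subset_span (by simp), by rw [hf.herm]; exact (map_ne_zero _).2 h2⟩,
      b, Submodule.subset_span (by simp), h2⟩
  · exact ⟨⟨a, Submodule.subset_span (by simp), by rw [hf.herm]; exact (map_ne_zero _).2 h1⟩,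
      a, Submodule.subset_span (by simp), h1⟩

/-- An isotropic vector of the fixed space with given product with a given one. -/
theorem exists_partner {v : Vec} (hv : v ≠ 0) {a : Fin 8 → F} (ha : a ∈ fixSub S v) (ha0 : a ≠ 0) (κ : F)
    (hκ : κ ≠ 0) : ∃ z ∈ fixSub S v, ⟪a, z⟫ = κ ∧ ⟪z, z⟫ = 0 := by
  have hf := UTv.isUnitaryForm hS.card (n := 8)
  obtain ⟨-, y, hy⟩ := hf.nondegenerate a ha0
  obtain ⟨y', hy', hyy⟩ := exists_fixed_part hS v y
  rw [← hyy a ha] at hy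
  set s := (κ / ⟪a, y'⟫) ^ p • y' with hs
  have hsa : ⟪a, s⟫ = κ := by
    rw [hs, Unit.smul_right hf, frobEquiv_apply, CfsgLib.Forms.pow_q_q hS.card, div_mul_cancel₀ _ hy]
  have h0p : (0 : F) ^ p = 0 := zero_pow hS.prime.ne_zero
  by_cases haa : ⟪a, a⟫ = 0
  · obtain ⟨d, hd, hn⟩ := exists_shift_length hS.card (nondeg_top hS) (F ∙ a) s h0p
      (Or.inr ⟨a, Submodule.mem_span_singleton_self a, hsa ▸ hκ⟩)
    obtain ⟨t, rfl⟩ := Submodule.mem_span_singleton.1 hd
    exact ⟨_, (fixSub S v).add_mem ((fixSub S v).smul_mem _ hy') ((fixSub S v).smul_mem t ha),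
      by rw [Unit.add_right hf, hsa, Unit.smul_right hf, haa, mul_zero, add_zero], hn⟩
  · obtain ⟨e, he, hee⟩ := exists_aniso hS hv (W := F ∙ a) ((Submodule.span_singleton_le_iff_mem _ _).2 ha)
      (fun x hx hx0 => by
        obtain ⟨t, rfl⟩ := Submodule.mem_span_singleton.1 hx
        have h : ⟪t • a, a⟫ ≠ 0 := by
          rw [hf.smul_left]; exact mul_ne_zero (fun e => hx0 (by rw [e, zero_smul])) haa
        exact ⟨⟨a, Submodule.mem_span_singleton_self a, by rw [hf.herm]; exact (map_ne_zero _).2 h⟩,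
          a, Submodule.mem_span_singleton_self a, h⟩)
      (lt_of_le_of_lt ((finrank_span_le_card {a}).trans (by simp)) (by norm_num : 1 < 4))
    obtain ⟨d, hd, hn⟩ := exists_shift_length hS.card (nondeg_top hS) (F ∙ e) s h0p
      (Or.inl ⟨e, Submodule.mem_span_singleton_self e, hee⟩)
    obtain ⟨t, rfl⟩ := Submodule.mem_span_singleton.1 hd
    exact ⟨_, (fixSub S v).add_mem ((fixSub S v).smul_mem _ hy') ((fixSub S v).smul_mem t he.1),
      by rw [Unit.add_right hf, hsa, Unit.smul_right hf,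
        herm_perp hS.card he.2 (Submodule.mem_span_singleton_self a), mul_zero, add_zero], hn⟩

/-- An isotropic vector of the fixed space with prescribed products with two independent isotropic ones. -/
theorem exists_between {v : Vec} (hv : v ≠ 0) {a b : Fin 8 → F} (ha : a ∈ fixSub S v) (hb : b ∈ fixSub S v)
    (haa : ⟪a, a⟫ = 0) (hbb : ⟪b, b⟫ = 0) (hab : a ∉ F ∙ b) (hba : b ∉ F ∙ a) {ζ : F} (hζ : ζ ≠ 0) :
    ∃ c ∈ fixSub S v, ⟪c, c⟫ = 0 ∧ ⟪a, c⟫ = ζ ∧ ⟪b, c⟫ = ζ := by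
  classical
  have hf := UTv.isUnitaryForm hS.card (n := 8)
  obtain ⟨y, hy, hay⟩ := exists_form_of_notMem hS.card (F ∙ b) hab
  obtain ⟨z, hz, hbz⟩ := exists_form_of_notMem hS.card (F ∙ a) hba
  obtain ⟨y', hy', hyy⟩ := exists_fixed_part hS v y
  obtain ⟨z', hz', hzz⟩ := exists_fixed_part hS v z
  set s := ζ ^ p • (y' + z') with hs
  have hsU : s ∈ fixSub S v := (fixSub S v).smul_mem _ ((fixSub S v).add_mem hy' hz')
  have has : ⟪a, s⟫ = ζ := by
    rw [hs, Unit.smul_right hf, Unit.add_right hf, hyy a ha, hzz a ha, hay,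
      herm_perp hS.card hz (Submodule.mem_span_singleton_self a), add_zero, mul_one, frobEquiv_apply,
      CfsgLib.Forms.pow_q_q hS.card]
  have hbs : ⟪b, s⟫ = ζ := by
    rw [hs, Unit.smul_right hf, Unit.add_right hf, hyy b hb, hzz b hb, hbz,
      herm_perp hS.card hy (Submodule.mem_span_singleton_self b), zero_add, mul_one, frobEquiv_apply,
      CfsgLib.Forms.pow_q_q hS.card]
  have h0p : (0 : F) ^ p = 0 := zero_pow hS.prime.ne_zero
  by_cases hc : ⟪a, b⟫ = 0
  · obtain ⟨d, hd, hn⟩ := exists_shift_length hS.card (nondeg_top hS) (F ∙ a) s h0p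
      (Or.inr ⟨a, Submodule.mem_span_singleton_self a, has ▸ hζ⟩)
    obtain ⟨t, rfl⟩ := Submodule.mem_span_singleton.1 hd
    refine ⟨_, (fixSub S v).add_mem hsU ((fixSub S v).smul_mem t ha), hn, ?_, ?_⟩
    · rw [Unit.add_right hf, has, Unit.smul_right hf, haa, mul_zero, add_zero]
    · rw [Unit.add_right hf, hbs, Unit.smul_right hf, hf.herm b a, hc, map_zero, mul_zero, add_zero]
  · have hba' : ⟪b, a⟫ ≠ 0 := by rw [hf.herm]; exact (map_ne_zero _).2 hc
    obtain ⟨e, he, hee⟩ := exists_aniso hS hv (W := Submodule.span F {a, b})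
      (Submodule.span_le.2 (by rintro x (rfl | rfl) <;> assumption))
      (nondeg_span_pair (fun α β h1 h2 => by
        simp only [hf.add_left, hf.smul_left, haa, hbb, mul_zero, zero_add, add_zero] at h1 h2
        rw [(mul_eq_zero.1 h1).resolve_right hba', (mul_eq_zero.1 h2).resolve_right hc, zero_smul, zero_smul,
          add_zero]) hS.card)
      (lt_of_le_of_lt ((finrank_span_le_card (R := F) ({a, b} : Set (Fin 8 → F))).trans (by
        rw [Set.toFinset_insert, Set.toFinset_singleton]; exact Finset.card_le_two)) (by norm_num : 2 < 4))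
    obtain ⟨d, hd, hn⟩ := exists_shift_length hS.card (nondeg_top hS) (F ∙ e) s h0p
      (Or.inl ⟨e, Submodule.mem_span_singleton_self e, hee⟩)
    obtain ⟨t, rfl⟩ := Submodule.mem_span_singleton.1 hd
    refine ⟨_, (fixSub S v).add_mem hsU ((fixSub S v).smul_mem t he.1), hn, ?_, ?_⟩
    · rw [Unit.add_right hf, has, Unit.smul_right hf,
        herm_perp hS.card he.2 (Submodule.subset_span (by simp)), mul_zero, add_zero]
    · rw [Unit.add_right hf, hbs, Unit.smul_right hf,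
        herm_perp hS.card he.2 (Submodule.subset_span (by simp)), mul_zero, add_zero]

variable {M : Subgroup (GL (Fin 8) F)}

/-- Full isotropic vectors of all eigenspaces of all monomials give the whole group. -/
theorem suGL_le_of_eigen (hMI : M ≤ suGL 8 F p)
    (hfix : ∀ y, y ≠ 0 → ∀ z, S.E y *ᵥ z = z → ⟪z, z⟫ = 0 → Full p M z)
    (hneg : ∀ y, y ≠ 0 → ∀ z, S.E y *ᵥ z = -z → ⟪z, z⟫ = 0 → Full p M z) : suGL 8 F p ≤ M := by
  have hf := UTv.isUnitaryForm hS.card (n := 8)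
  have hF := hS.card
  obtain ⟨v, hv⟩ : ∃ v : Vec, v ≠ 0 := exists_ne 0
  obtain ⟨u, hvu⟩ := S.B_nondeg v hv
  have hu : u ≠ 0 := fun e => by rw [e, S.B_zero'] at hvu; exact zero_ne_one hvu
  have hswap : ∀ z, S.E v *ᵥ (S.E u *ᵥ z) = -(S.E u *ᵥ (S.E v *ᵥ z)) := fun z => by
    rw [Matrix.mulVec_mulVec, Matrix.mulVec_mulVec, S.E_comm u v, S.B_symm, hvu, sgn_one, neg_one_smul,
      Matrix.neg_mulVec]
  have horth : ∀ {x y}, S.E v *ᵥ x = x → S.E v *ᵥ y = -y → ⟪x, y⟫ = 0 := fun {x y} hx hy =>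
    herm_fixed_neg hF (hS.unit v) S.two (x := x) (y := y) hx hy
  obtain ⟨ζ, hζ0, hζ⟩ := CfsgLib.Unitary.exists_skew hF
  have hζ' : ζ ^ p = -ζ := eq_neg_of_add_eq_zero_right hζ
  -- one move
  have step : ∀ {x c b}, S.E v *ᵥ x = x → S.E v *ᵥ c = c → S.E v *ᵥ b = -b → ⟪x, x⟫ = 0 → ⟪c, c⟫ = 0 →
      ⟪b, b⟫ = 0 → (⟪x, c⟫ = ζ ∨ ⟪c, x⟫ = ζ) → Full p M (x + b) → Full p M (c + b) := by
    intro x c b hx hc hb hxx hcc hbb hxc hfull
    have hd : S.E v *ᵥ (c - x) = c - x := by rw [Matrix.mulVec_sub, hc, hx]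
    have hsum : ⟪x, c⟫ + ⟪c, x⟫ = 0 := by
      rw [hf.herm c x, frobEquiv_apply]
      rcases hxc with h | h
      · rw [h]; exact hζ
      · rw [show ⟪x, c⟫ = ζ ^ p by rw [← frobEquiv_apply hF, ← h, ← hf.herm]]
        rw [CfsgLib.Forms.pow_q_q hF, add_comm]; exact hζ
    have hdd : ⟪c - x, c - x⟫ = 0 := by
      rw [CfsgLib.Unitary.herm_sub_left hF, CfsgLib.Unitary.herm_sub_right hF, CfsgLib.Unitary.herm_sub_right hF,
        hxx, hcc]
      linear_combination -hsum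
    have h0 : ⟪x + b, c - x⟫ ≠ 0 := by
      rw [hf.add_left, CfsgLib.Unitary.herm_sub_right hF, hxx, sub_zero,
        show ⟪b, c - x⟫ = 0 by rw [hf.herm, horth hd hb, map_zero], add_zero]
      rcases hxc with h | h
      · rw [h]; exact hζ0
      · rw [hf.herm, h, frobEquiv_apply]; exact pow_ne_zero _ hζ0
    have e : x + b + (1 : F) • (c - x) = c + b := by rw [one_smul]; abel
    have := full_add_smul hF hMI (hfix v hv _ hd hdd) hfull h0 1 (by
      rw [e, hf.add_left, Unit.add_right hf, Unit.add_right hf, hcc, hbb, horth hc hb, hf.herm b c, horth hc hb,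
        map_zero]
      ring)
    rwa [e] at this
  -- pairs of isotropic components
  have pair : ∀ a b, S.E v *ᵥ a = a → S.E v *ᵥ b = -b → ⟪a, a⟫ = 0 → ⟪b, b⟫ = 0 → a ≠ 0 → b ≠ 0 →
      Full p M (a + b) := by
    intro a b ha hb haa hbb ha0 hb0
    set x := S.E u *ᵥ b with hx
    have hxv : S.E v *ᵥ x = x := by rw [hx, hswap, hb, Matrix.mulVec_neg, neg_neg]
    have hxx : ⟪x, x⟫ = 0 := by rw [hx, herm_E hS, hbb]
    have hx0 : x ≠ 0 := fun e => hb0 (by rw [← E_E (S := S) u b, ← hx, e, Matrix.mulVec_zero])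
    have hbase : Full p M (x + b) := hfix u hu _
      (by rw [Matrix.mulVec_add, hx, E_E, add_comm]) (by
        rw [hf.add_left, Unit.add_right hf, Unit.add_right hf, hxx, hbb, horth hxv hb, hf.herm b x, horth hxv hb,
          map_zero]
        ring)
    have indep : ∀ {x a}, S.E v *ᵥ x = x → S.E v *ᵥ a = a → ⟪x, x⟫ = 0 → ⟪a, a⟫ = 0 → x ∉ F ∙ a → a ∉ F ∙ x →
        Full p M (x + b) → Full p M (a + b) := by
      intro x a hx ha hxx haa h1 h2 hfull
      obtain ⟨c, hc, hcc, hxc, hac⟩ := exists_between hS hv (mem_fixSub.2 hx) (mem_fixSub.2 ha) hxx haa h1 h2 hζ0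
      have hc' := mem_fixSub.1 hc
      exact step hc' ha hb hcc haa hbb (Or.inr hac) (step hx hc' hb hxx hcc hbb (Or.inl hxc) hfull)
    by_cases hdep : x ∈ F ∙ a
    · obtain ⟨t, ht⟩ := Submodule.mem_span_singleton.1 hdep
      obtain ⟨w, hw, haw, hww⟩ := exists_partner hS hv (mem_fixSub.2 ha) ha0 1 one_ne_zero
      have hwa : w ∉ F ∙ a := fun h => by
        obtain ⟨r, hr⟩ := Submodule.mem_span_singleton.1 h
        rw [← hr, Unit.smul_right hf, haa, mul_zero] at haw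
        exact zero_ne_one haw
      have haw' : a ∉ F ∙ w := fun h => by
        obtain ⟨r, hr⟩ := Submodule.mem_span_singleton.1 h
        rw [← hr, hf.smul_left, hww, mul_zero] at haw
        exact zero_ne_one haw
      have ht0 : t ≠ 0 := fun e => hx0 (by rw [← ht, e, zero_smul])
      have hxw : x ∉ F ∙ w := fun h => haw' (by
        rw [← ht] at h; exact (Submodule.smul_mem_iff _ ht0).1 h)
      have hwx : w ∉ F ∙ x := fun h => hwa (by
        rw [← ht, Submodule.span_singleton_smul_eq (isUnit_iff_ne_zero.2 ht0)] at h; exact h)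
      exact indep (mem_fixSub.1 hw) ha hww haa hwa haw'
        (indep hxv (mem_fixSub.1 hw) hxx hww hxw hwx hbase)
    · refine indep hxv ha hxx haa hdep (fun h => hdep ?_) hbase
      obtain ⟨t, ht⟩ := Submodule.mem_span_singleton.1 h
      have ht0 : t ≠ 0 := fun e => ha0 (by rw [← ht, e, zero_smul])
      exact Submodule.mem_span_singleton.2 ⟨t⁻¹, by rw [← ht, smul_smul, inv_mul_cancel₀ ht0, one_smul]⟩
  refine suGL_le_of_full hF (by norm_num) fun z hz => ?_
  set a := (2 : F)⁻¹ • (z + S.E v *ᵥ z) with ha'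
  set b := (2 : F)⁻¹ • (z - S.E v *ᵥ z) with hb'
  have ha : S.E v *ᵥ a = a := by rw [ha', Matrix.mulVec_smul, Matrix.mulVec_add, E_E, add_comm]
  have hb : S.E v *ᵥ b = -b := by rw [hb', Matrix.mulVec_smul, Matrix.mulVec_sub, E_E, ← smul_neg, neg_sub]
  have hzab : a + b = z := by
    rw [ha', hb', ← smul_add, show z + S.E v *ᵥ z + (z - S.E v *ᵥ z) = (2 : F) • z by module, smul_smul,
      inv_mul_cancel₀ S.two, one_smul]
  have hab : ⟪a, b⟫ = 0 := horth ha hb
  have hba : ⟪b, a⟫ = 0 := by rw [hf.herm, hab, map_zero]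
  have hnn : ⟪a, a⟫ + ⟪b, b⟫ = 0 := by
    rw [← hzab, hf.add_left, Unit.add_right hf, Unit.add_right hf, hab, hba] at hz
    linear_combination hz
  rw [← hzab]
  by_cases haa : ⟪a, a⟫ = 0
  · have hbb : ⟪b, b⟫ = 0 := by linear_combination hnn - haa
    by_cases ha0 : a = 0
    · rw [ha0, zero_add]; exact hneg v hv b hb hbb
    by_cases hb0 : b = 0
    · rw [hb0, add_zero]; exact hfix v hv a ha haa
    exact pair a b ha hb haa hbb ha0 hb0
  -- a component of non-zero length is a sum of two isotropic vectors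
  have ha0 : a ≠ 0 := fun e => haa (by rw [e, Unit.zero_right hf])
  have hbb : ⟪b, b⟫ ≠ 0 := fun e => haa (by linear_combination hnn - e)
  have hb0 : b ≠ 0 := fun e => hbb (by rw [e, Unit.zero_right hf])
  obtain ⟨α, hα⟩ := CfsgLib.Unitary.exists_trace_eq hF (herm_self_pow hF a)
  have hα0 : α ≠ 0 := fun e => haa (by rw [← hα, e, zero_pow hS.prime.ne_zero, add_zero])
  set β := ζ - α with hβ'
  have hβ : β + β ^ p = ⟪b, b⟫ := by
    rw [hβ', ← frobEquiv_apply hF, map_sub, frobEquiv_apply, frobEquiv_apply, hζ']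
    linear_combination -hα - hnn
  have hβ0 : β ≠ 0 := fun e => hbb (by rw [← hβ, e, zero_pow hS.prime.ne_zero, add_zero])
  obtain ⟨a₀, ha₀, haa₀, ha₀0⟩ := exists_partner hS hv (mem_fixSub.2 ha) ha0 α hα0
  have hub : S.E v *ᵥ (S.E u *ᵥ b) = S.E u *ᵥ b := by rw [hswap, hb, Matrix.mulVec_neg, neg_neg]
  obtain ⟨b₁, hb₁, hbb₁, hb₁0⟩ := exists_partner hS hv (mem_fixSub.2 hub)
    (fun e => hb0 (by rw [← E_E (S := S) u b, e, Matrix.mulVec_zero])) β hβ0
  set b₀ := S.E u *ᵥ b₁ with hb₀'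
  have ha₀v := mem_fixSub.1 ha₀
  have hb₀v : S.E v *ᵥ b₀ = -b₀ := by rw [hb₀', hswap, mem_fixSub.1 hb₁]
  have hbb₀ : ⟪b, b₀⟫ = β := by rw [hb₀', ← herm_E hS u, E_E, hbb₁]
  have hb₀0 : ⟪b₀, b₀⟫ = 0 := by rw [hb₀', herm_E hS, hb₁0]
  set a' := a - a₀ with ha''
  set b' := b - b₀ with hb''
  have ha'v : S.E v *ᵥ a' = a' := by rw [ha'', Matrix.mulVec_sub, ha, ha₀v]
  have hb'v : S.E v *ᵥ b' = -b' := by rw [hb'', Matrix.mulVec_sub, hb, hb₀v, neg_sub_neg, neg_sub]
  have ha'a : ⟪a', a'⟫ = 0 := by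
    rw [ha'', CfsgLib.Unitary.herm_sub_left hF, CfsgLib.Unitary.herm_sub_right hF,
      CfsgLib.Unitary.herm_sub_right hF, ha₀0, hf.herm a₀ a, haa₀, frobEquiv_apply]
    linear_combination -hα
  have hb'b : ⟪b', b'⟫ = 0 := by
    rw [hb'', CfsgLib.Unitary.herm_sub_left hF, CfsgLib.Unitary.herm_sub_right hF,
      CfsgLib.Unitary.herm_sub_right hF, hb₀0, hf.herm b₀ b, hbb₀, frobEquiv_apply]
    linear_combination -hβ
  have hpa : ⟪a', a₀⟫ = α := by rw [ha'', CfsgLib.Unitary.herm_sub_left hF, ha₀0, sub_zero, haa₀]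
  have hpb : ⟪b', b₀⟫ = β := by rw [hb'', CfsgLib.Unitary.herm_sub_left hF, hb₀0, sub_zero, hbb₀]
  have f1 := pair a₀ b₀ ha₀v hb₀v ha₀0 hb₀0 (fun e => hα0 (by rw [← haa₀, e, Unit.zero_right hf]))
    (fun e => hβ0 (by rw [← hbb₀, e, Unit.zero_right hf]))
  have f2 := pair a' b' ha'v hb'v ha'a hb'b
    (fun e => hα0 (by rw [← hpa, e, LinLeft.zero_left ⟨hf.add_left, hf.smul_left⟩]))
    (fun e => hβ0 (by rw [← hpb, e, LinLeft.zero_left ⟨hf.add_left, hf.smul_left⟩]))
  have h0 : ⟪a' + b', a₀ + b₀⟫ ≠ 0 := by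
    rw [hf.add_left, Unit.add_right hf, Unit.add_right hf, hpa, hpb, horth ha'v hb₀v,
      show ⟪b', a₀⟫ = 0 by rw [hf.herm, horth ha₀v hb'v, map_zero], add_zero, zero_add, hβ']
    intro e
    exact hζ0 (by linear_combination e)
  have e : a' + b' + (1 : F) • (a₀ + b₀) = a + b := by rw [one_smul, ha'', hb'']; abel
  have := full_add_smul hF hMI f1 f2 h0 1 (by rw [e, hzab]; exact hz)
  rwa [e] at this

end CfsgLib.Geo.SUEight
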