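import Cfsg.Agent.Geo.PauliEight.Build
import Cfsg.Agent.Geo.PauliEight.Local
import Cfsg.Agent.Geo.PauliEight.Model
import Cfsg.Agent.Geo.PauliEight.Trans
import Cfsg.Agent.Geo.SUFour.PauliUnit
import Cfsg.Agent.Geo.SUEight.Embed

/-!
The group of a Pauli system, its normaliser, and unitary representatives of the monomials and lifts.
-/

set_option autoImplicit false
set_option linter.unusedSectionVars false

namespace CfsgLib.Geo.SUEight

open Matrix Cfsg Cfsg.Geo CfsgLib.Geo.UTv CfsgLib.Geo.PauliEight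

section grp

variable {ι : Type} [Fintype ι] [DecidableEq ι] {F : Type*} [Field F] [Finite F]
  {V : Type*} [AddCommGroup V] [Fintype V] [DecidableEq V] (S : Sys ι F V)

/-- The monomials times fourth roots of unity. -/
def grp : Subgroup (GL ι F) where
  carrier := {g | ∃ (c : F) (x : V), c ^ 4 = 1 ∧ (g : Matrix ι ι F) = c • S.E x}
  one_mem' := ⟨1, 0, one_pow 4, by rw [Units.val_one, S.E_zero, one_smul]⟩
  mul_mem' {g h} hg hh := by
    obtain ⟨c, x, hc, hx⟩ := hg
    obtain ⟨d, y, hd, hy⟩ := hh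
    obtain ⟨e, he, hxy⟩ := S.E_mul x y
    exact ⟨c * d * e, x + y, by rw [mul_pow, mul_pow, hc, hd, he, one_mul, one_mul],
      by rw [Units.val_mul, hx, hy, smul_mul_smul_comm, hxy, smul_smul]⟩
  inv_mem' {g} hg := by
    obtain ⟨c, x, hc, hx⟩ := hg
    refine ⟨c ^ 3, x, by rw [← pow_mul, show 3 * 4 = 4 * 3 by norm_num, pow_mul, hc, one_pow],
      Units.inv_eq_of_mul_eq_one_right ?_⟩
    rw [hx, smul_mul_smul_comm, S.E_sq, ← pow_succ', hc, one_smul]

theorem u_mem_grp (x : V) : S.u x ∈ grp S := ⟨1, x, one_pow 4, by rw [Sys.u_val, one_smul]⟩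

theorem norm_of_normalizer {g : GL ι F} (hg : g ∈ subgroupNormalizer (grp S)) : S.Norm g := fun x => by
  obtain ⟨c, y, -, hy⟩ := (Subgroup.mem_normalizer_iff.1 hg (S.u x)).1 (u_mem_grp S x)
  exact ⟨c, y, by rw [← hy, Units.val_mul, Units.val_mul, Sys.u_val]; rfl⟩

theorem normalizer_of_norm {g : GL ι F} (hg : S.Norm g) : g ∈ subgroupNormalizer (grp S) := by
  have key : ∀ {g : GL ι F}, S.Norm g → ∀ h ∈ grp S, g * h * g⁻¹ ∈ grp S := by
    rintro g hg h ⟨c, x, hc, hx⟩
    obtain ⟨d, y, hy⟩ := hg x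
    refine ⟨c * d, y, ?_, ?_⟩
    · rw [mul_pow, hc, one_mul]
      rcases S.sign_of_image hy with rfl | rfl <;> ring
    · rw [← smul_smul, ← hy, ← cj_smul, ← hx, cj_coe]
  refine Subgroup.mem_normalizer_iff.2 fun h => ⟨key hg h, fun hh => ?_⟩
  simpa [mul_assoc] using key (Sys.Norm.inv S hg) _ hh

theorem norm_commutator {g h : GL ι F} (hh : S.Norm h) (hgh : S.Norm (g * h * g⁻¹ * h⁻¹)) :
    S.Norm (g * h * g⁻¹) := by
  simpa [mul_assoc] using Sys.Norm.mul S hgh hh

theorem pow_four_root {c : F} (hc : c ^ 4 = 1) : c = 1 ∨ c = -1 ∨ c = S.i ∨ c = -S.i := by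
  have h : (c - 1) * (c + 1) * ((c - S.i) * (c + S.i)) = 0 := by
    linear_combination hc - (c ^ 2 - 1) * S.sq_i
  rcases mul_eq_zero.1 h with h | h <;> rcases mul_eq_zero.1 h with h | h
  · exact Or.inl (sub_eq_zero.1 h)
  · exact Or.inr (Or.inl (eq_neg_of_add_eq_zero_left h))
  · exact Or.inr (Or.inr (Or.inl (sub_eq_zero.1 h)))
  · exact Or.inr (Or.inr (Or.inr (eq_neg_of_add_eq_zero_left h)))

theorem card_grp : Nat.card (grp S) = 4 * Fintype.card V := by
  classical
  haveI := Fintype.ofFinite F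
  have hi : S.i ≠ 0 := fun e => by
    have := S.sq_i; rw [e, mul_zero] at this; exact one_ne_zero (neg_eq_zero.1 this.symm)
  have h1 : (1 : F) ≠ -1 := fun e => S.two (by linear_combination e)
  have h3 : (1 : F) ≠ S.i := fun e => by
    have := S.sq_i; rw [← e, mul_one] at this; exact h1 this
  have h4 : (1 : F) ≠ -S.i := fun e => by
    have h := S.sq_i; rw [show S.i = -1 by linear_combination e] at h; simp at h; exact h1 h
  have hset : (Finset.univ.filter fun c : F => c ^ 4 = 1) = {1, -1, S.i, -S.i} := by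
    ext c
    simp only [Finset.mem_filter, Finset.mem_univ, true_and, Finset.mem_insert, Finset.mem_singleton]
    refine ⟨pow_four_root S, ?_⟩
    rintro (rfl | rfl | rfl | rfl) <;> first | (norm_num; done) | linear_combination (S.i * S.i - 1) * S.sq_i
  have hcard : Fintype.card {c : F // c ^ 4 = 1} = 4 := by
    rw [Fintype.card_subtype, hset, Finset.card_insert_of_notMem (by simp [h1, h3, h4]),
      Finset.card_insert_of_notMem (by
        simp only [Finset.mem_insert, Finset.mem_singleton, neg_inj, not_or]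
        exact ⟨fun e => h4 (by linear_combination -e), h3⟩), Finset.card_pair (fun e => hi ?_)]
    exact (mul_eq_zero.1 (show (2 : F) * S.i = 0 by linear_combination e)).resolve_left S.two
  let f : {c : F // c ^ 4 = 1} × V → grp S := fun t =>
    ⟨⟨(t.1 : F) • S.E t.2, (t.1 : F) ^ 3 • S.E t.2,
      by rw [smul_mul_smul_comm, S.E_sq, ← pow_succ', t.1.2, one_smul],
      by rw [smul_mul_smul_comm, S.E_sq, ← pow_succ, t.1.2, one_smul]⟩, t.1, t.2, t.1.2, rfl⟩
  have hf : Function.Bijective f := by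
    constructor
    · rintro ⟨⟨c, hc⟩, x⟩ ⟨⟨d, hd⟩, y⟩ e
      have e' : c • S.E x = d • S.E y := congrArg (fun u : grp S => ((u : GL ι F) : Matrix ι ι F)) e
      obtain ⟨rfl, rfl⟩ := S.smul_E_eq e' fun h0 => by rw [h0] at hc; simp at hc
      rfl
    · rintro ⟨g, c, x, hc, hx⟩
      exact ⟨(⟨c, hc⟩, x), Subtype.ext (Units.ext hx.symm)⟩
  rw [← Nat.card_congr (Equiv.ofBijective f hf), Nat.card_prod, Nat.card_eq_fintype_card, hcard,
    Nat.card_eq_fintype_card]

end grp

variable {F : Type*} [Field F] [Finite F] {p : ℕ}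

/-- The setting: a Pauli system of isometries over the field with `p ^ 2` elements, `p ≡ 3 mod 4`. -/
structure UData (p : ℕ) (S : Sys (Fin 8) F Vec) : Prop where
  card : Nat.card F = p ^ 2
  prime : p.Prime
  mod4 : p % 4 = 3
  unit : ∀ x, S.u x ∈ Cfsg.GU 8 F p

variable {S : Sys (Fin 8) F Vec} (hS : UData p S)
include hS

theorem UData.root_phase {c : F} (hc : c ^ 4 = 1) : c * c ^ p = 1 := by
  obtain ⟨m, hm⟩ : ∃ m, p + 1 = 4 * m := ⟨p / 4 + 1, by have := hS.mod4; omega⟩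
  rw [← pow_succ', hm, pow_mul, hc, one_pow]

theorem UData.frob_i : S.i ^ p = -S.i := by
  obtain ⟨m, hm⟩ : ∃ m, p = 2 * (2 * m + 1) + 1 := ⟨p / 4, by have := hS.mod4; omega⟩
  rw [hm, pow_succ, pow_mul, show S.i ^ 2 = -1 by rw [pow_two, S.sq_i], Odd.neg_one_pow ⟨m, rfl⟩, neg_one_mul]

omit hS [Finite F] in
theorem one_add_i_ne : 1 + S.i ≠ 0 := fun e => S.two (by linear_combination (1 - S.i) * e + S.sq_i)

omit hS [Finite F] in
theorem one_sub_i_ne : 1 - S.i ≠ 0 := fun e => S.two (by linear_combination (1 + S.i) * e + S.sq_i)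

/-- The isometry in the class of a transvection lift. -/
def lu (_hS : UData p S) (x : Vec) : GL (Fin 8) F :=
  ⟨(1 + S.i)⁻¹ • S.L x, (1 - S.i)⁻¹ • (1 - S.i • S.E x),
    by rw [smul_mul_smul_comm, S.L_mul_conj, smul_smul, ← mul_inv,
      show (1 + S.i) * (1 - S.i) = 2 by linear_combination -S.sq_i, inv_mul_cancel₀ S.two, one_smul],
    by rw [smul_mul_smul_comm, Sys.L, sub_mul, one_mul, mul_add, mul_one, smul_mul_smul_comm, S.sq_i, S.E_sq,
      ← mul_inv, show (1 - S.i) * (1 + S.i) = 2 by linear_combination -S.sq_i,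
      show (1 : Matrix (Fin 8) (Fin 8) F) + S.i • S.E x - (S.i • S.E x + (-1 : F) • 1) = (2 : F) • 1 by module,
      smul_smul, inv_mul_cancel₀ S.two, one_smul]⟩

theorem lu_val (x : Vec) : (lu hS x : Matrix (Fin 8) (Fin 8) F) = (1 + S.i)⁻¹ • S.L x := rfl

theorem lu_inv_val (x : Vec) :
    ((lu hS x)⁻¹ : GL (Fin 8) F).val = (1 - S.i)⁻¹ • (1 - S.i • S.E x) := rfl

theorem lu_mem_GU (x : Vec) : lu hS x ∈ Cfsg.GU 8 F p := UTv.mem_GU.2 fun a b => by
  have hf := UTv.isUnitaryForm hS.card (n := 8)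
  have hE := fun a b => UTv.mem_GU.1 (hS.unit x) a b
  have hmove : Cfsg.hermForm 8 F p (S.E x *ᵥ a) b = Cfsg.hermForm 8 F p a (S.E x *ᵥ b) := by
    have h := hE (S.E x *ᵥ a) b
    rw [Sys.u_val, Matrix.mulVec_mulVec, S.E_sq, Matrix.one_mulVec] at h
    exact h.symm
  have hEE := hE a b
  rw [Sys.u_val] at hEE
  have hi := hS.frob_i
  have hc : (1 + S.i)⁻¹ * ((1 + S.i)⁻¹) ^ p * 2 = 1 := by
    rw [inv_pow, ← mul_inv, CfsgLib.Forms.add_pow_q hS.card, one_pow, hi,
      show (1 + S.i) * (1 + -S.i) = 2 by linear_combination -S.sq_i, inv_mul_cancel₀ S.two]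
  simp only [lu_val, Matrix.smul_mulVec, Sys.L, Matrix.add_mulVec, Matrix.one_mulVec, hf.smul_left,
    Unit.smul_right hf, hf.add_left, Unit.add_right hf, UTv.frobEquiv_apply hS.card, hi, hEE, hmove]
  linear_combination (Cfsg.hermForm 8 F p a b) * hc -
    (1 + S.i)⁻¹ * ((1 + S.i)⁻¹) ^ p * Cfsg.hermForm 8 F p a b * S.sq_i

omit hS [Finite F] in
/-- The determinant of a combination of the identity and a monomial. -/
theorem det_add_smul {x : Vec} (hx : x ≠ 0) (a b : F) :
    (a • (1 : Matrix (Fin 8) (Fin 8) F) + b • S.E x).det = (a + b) ^ 4 * (a - b) ^ 4 := by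
  obtain ⟨y, hy⟩ := S.B_nondeg x hx
  obtain ⟨P, e, hP, -⟩ := S.exists_chart (by simp) hy
  rw [← det_chart P e, map_add, map_smul, map_smul, map_one, hP, ← Matrix.fromBlocks_one,
    Matrix.fromBlocks_smul, Matrix.fromBlocks_smul, Matrix.fromBlocks_add]
  simp only [smul_zero, add_zero, smul_neg]
  rw [Matrix.det_fromBlocks_zero₂₁, ← sub_eq_add_neg, ← add_smul, ← sub_smul, Matrix.det_smul, Matrix.det_smul]
  simp

omit hS [Finite F] in
theorem det_E (x : Vec) : (S.E x).det = 1 := by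
  by_cases hx : x = 0
  · rw [hx, S.E_zero, Matrix.det_one]
  · have := det_add_smul (S := S) hx 0 1
    rw [zero_smul, zero_add, one_smul] at this
    rw [this]; ring

theorem u_mem_su (x : Vec) : S.u x ∈ suGL 8 F p :=
  ⟨hS.unit x, mem_specialLinear.2 (det_E x)⟩

theorem lu_mem_su {x : Vec} (hx : x ≠ 0) : lu hS x ∈ suGL 8 F p := by
  refine ⟨lu_mem_GU hS x, mem_specialLinear.2 ?_⟩
  rw [lu_val, Sys.L, smul_add, smul_smul, det_add_smul hx]
  have h := one_add_i_ne (S := S)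
  have e1 : (1 + S.i)⁻¹ + (1 + S.i)⁻¹ * S.i = 1 := by field_simp
  have e2 : (1 + S.i)⁻¹ - (1 + S.i)⁻¹ * S.i = -S.i := by
    field_simp
    linear_combination S.sq_i
  rw [e1, e2, one_pow, one_mul]
  linear_combination (S.i * S.i - 1) * S.sq_i

end CfsgLib.Geo.SUEight
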