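import Cfsg.Agent.Geo.SUEight.Block
import Cfsg.Agent.Geo.SUEight.Gen
import Cfsg.Agent.Geo.PauliEight.Data

/-!
The normaliser of a symplectic-type group of order 256 with centre of order four is maximal in `SU₈(p)`,
`p ≡ 3 mod 4`.
-/

set_option autoImplicit false
set_option linter.unusedSectionVars false

namespace CfsgLib.Geo.SUEight

open Matrix Cfsg Cfsg.Geo CfsgLib.Geo.UTv CfsgLib.Geo.PauliEight

variable {F : Type*} [Field F] [Finite F] {p : ℕ} {S : Sys (Fin 8) F Vec}
  {v u : Vec} (hvu : S.B v u = 1) (j : Emb p (S.E v))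
  [Fintype (perpPair S v u)] [DecidableEq (perpPair S v u)]

local notation "T" => subSys hvu j

/-- A normalising element centralising `E v` normalises on the fixed space. -/
theorem norm_res {g : GL (Fin 8) F} (hg : S.Norm g) (hc : (g : Matrix (Fin 8) (Fin 8) F) * S.E v = S.E v * g) :
    (T).Norm (j.resU g hc) := by
  intro w
  obtain ⟨c, y, hy⟩ := hg w
  have hc0 := S.coeff_ne hy
  have hyv : S.B v y = 0 := by
    have h1 := congrArg (cj g) (comm_perp (v := v) w)
    rw [cj_mul, cj_mul, hy, cj_of_comm hc, smul_mul_assoc, mul_smul_comm] at h1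
    have h2 := smul_right_injective _ hc0 h1
    rw [S.E_comm v y] at h2
    rcases bit_cases (S.B v y) with h | h
    · exact h
    · exfalso
      rw [h, sgn_one, neg_one_smul, neg_eq_iff_add_eq_zero, ← two_smul F] at h2
      obtain ⟨e, he0, he⟩ := S.E_mul_ne v y
      rw [he, smul_smul] at h2
      have := congrArg (S.coef (v + y)) h2
      rw [map_smul, S.coef_E, if_pos rfl, map_zero, smul_eq_mul, mul_one] at this
      exact mul_ne_zero S.two he0 this
  obtain ⟨d, hd⟩ := res_E hvu j hyv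
  refine ⟨c * d, ⟨prj S v u y, prj_mem hvu y⟩, ?_⟩
  rw [subSys_E, ← res_cj j hc (comm_perp w), hy, j.res_smul, hd, smul_smul]

/-- An element normalising on the fixed space is small there. -/
theorem small_of_norm {g : GL (Fin 8) F} (hc : (g : Matrix (Fin 8) (Fin 8) F) * S.E v = S.E v * g)
    (hn : (T).Norm (j.resU g hc)) {r : Vec} (hr : S.B v r = 0) :
    ∃ (k : Vec) (c : F), S.B v k = 0 ∧ cj g (S.E r) * (1 + S.E v) = c • (S.E k * (1 + S.E v)) := by
  obtain ⟨d, hd⟩ := res_E hvu j hr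
  obtain ⟨c, k, hk⟩ := hn ⟨prj S v u r, prj_mem hvu r⟩
  refine ⟨(k : Vec), d * c, (S.B_symm _ _).trans k.2.1, ?_⟩
  have hXc : cj g (S.E r) * S.E v = S.E v * cj g (S.E r) := by
    conv_lhs => rw [← cj_of_comm hc, ← cj_mul, comm_of_B hr, cj_mul, cj_of_comm hc]
  have hres : j.res (cj g (S.E r)) = (d * c) • j.res (S.E (k : Vec)) := by
    rw [res_cj j hc (comm_of_B hr), hd, cj_smul, hk, smul_smul, subSys_E]
  have key : ∀ X : Matrix (Fin 8) (Fin 8) F, X * S.E v = S.E v * X →
      X * (1 + S.E v) = (2 : F) • (j.J * j.res X * j.Jd) := fun X hX => by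
    rw [← j.comm_J hX, Matrix.mul_assoc, j.JJd, mul_smul_comm, smul_smul, mul_inv_cancel₀ S.two, one_smul]
  rw [key _ hXc, key _ (comm_perp k), hres, Matrix.mul_smul, Matrix.smul_mul, smul_comm]

variable (hS : UData p S)
include hS

omit hvu j [Fintype (perpPair S v u)] [DecidableEq (perpPair S v u)] in
/-- The normaliser is not everything. -/
theorem proper [Fact p.Prime] : ¬ suGL 8 F p ≤ subgroupNormalizer (grp S) := by
  classical
  intro hall
  obtain ⟨v, hv⟩ : ∃ v : Vec, v ≠ 0 := exists_ne 0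
  obtain ⟨u, hvu⟩ := S.B_nondeg v hv
  obtain ⟨j⟩ := exists_emb hS.card S hS.unit hv
  haveI : Fintype (perpPair S v u) := Fintype.ofFinite _
  have hmax := block_max hS hvu j (M := suGL 8 F p) inf_le_right le_rfl
  refine not_le_of_gt hmax.1 (le_inf ?_ le_rfl)
  refine suGL_le_of_full hS.card (by norm_num) fun a ha => full_of_mem hS.card ha fun c hc => ?_
  have hz : Cfsg.hermForm 8 F p (j.J *ᵥ a) (j.J *ᵥ a) = 0 := by rw [j.iso, ha]
  set t := tvec (j.J *ᵥ a) (uax p (j.J *ᵥ a) c) (uax_dot_self hz c) with ht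
  have htc : (t : Matrix (Fin 8) (Fin 8) F) * S.E v = S.E v * t := Matrix.ext_of_mulVec_single fun k => by
    rw [← Matrix.mulVec_mulVec, ← Matrix.mulVec_mulVec, utv_mulVec hS.card hz, utv_mulVec hS.card hz,
      Matrix.mulVec_add, Matrix.mulVec_smul, j.J_fixed S.two]
    congr 3
    have := herm_E hS v (Pi.single k 1) (j.J *ᵥ a)
    rwa [j.J_fixed S.two] at this
  have hn := norm_res hvu j (norm_of_normalizer S (hall (utv_mem hS.card hz hc))) htc
  have e : tvec a (uax p a c) (uax_dot_self ha c) = j.resU t htc := gl_ext_mulVec fun y => by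
    rw [utv_mulVec hS.card ha, Emb.resU_val, Emb.res, ← Matrix.mulVec_mulVec, ← Matrix.mulVec_mulVec,
      utv_mulVec hS.card hz, Matrix.mulVec_add, Matrix.mulVec_smul, Matrix.mulVec_mulVec, Matrix.mulVec_mulVec,
      j.dJ, Matrix.one_mulVec, Matrix.one_mulVec, j.iso]
  rw [e]
  exact normalizer_of_norm (subSys hvu j) hn

omit hvu j [Fintype (perpPair S v u)] [DecidableEq (perpPair S v u)] in
/-- An overgroup outside the normaliser is everything. -/
theorem key [Fact p.Prime] {M : Subgroup (GL (Fin 8) F)} (hN : subgroupNormalizer (grp S) ⊓ suGL 8 F p ≤ M)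
    (hMI : M ≤ suGL 8 F p) (hMX : ¬ M ≤ subgroupNormalizer (grp S)) : suGL 8 F p ≤ M := by
  classical
  obtain ⟨g₁, hg₁, hg₁N⟩ := SetLike.not_le_iff_exists.1 hMX
  have hmem : ∀ x, ∃ g ∈ M, ∃ c : F, (g : Matrix (Fin 8) (Fin 8) F) = c • S.E x := fun x =>
    ⟨S.u x, u_mem_M hS hN x, 1, (one_smul _ _).symm⟩
  have hlift : ∀ x, x ≠ 0 → ∃ g ∈ M, ∃ c : F, (g : Matrix (Fin 8) (Fin 8) F) = c • S.L x := fun x hx =>
    ⟨lu hS x, lu_mem_M hS hN hx, _, lu_val hS x⟩
  have h64 : Fintype.card Vec = 64 := by simp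
  have hsmall : ¬ S.Small M := fun h =>
    hg₁N (normalizer_of_norm S ((Sys.hyp_of_small hmem hlift h64 h).norm_all h64 hg₁))
  simp only [Sys.Small, not_forall] at hsmall
  obtain ⟨v, hv, g, hg, hgv, r, hr, hno⟩ := hsmall
  obtain ⟨u, hvu⟩ := S.B_nondeg v hv
  obtain ⟨j⟩ := exists_emb hS.card S hS.unit hv
  haveI : Fintype (perpPair S v u) := Fintype.ofFinite _
  have hgc := cj_eq_self hgv
  have hbad : ¬ (subSys hvu j).Norm (j.resU g hgc) := fun hn => hno (small_of_norm hvu j hgc hn hr)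
  have hfv : ∀ z, S.E v *ᵥ z = z → Cfsg.hermForm 8 F p z z = 0 → Full p M z := fun z =>
    full_fixed hS hvu j hN hMI ⟨g, hg, hgc, rfl⟩ hbad
  have hnv : ∀ z, S.E v *ᵥ z = -z → Cfsg.hermForm 8 F p z z = 0 → Full p M z := fun z hz hzz => by
    have := full_conj hS.card hMI (hfv (S.E u *ᵥ z) (by
      rw [Matrix.mulVec_mulVec, S.E_comm u v, S.B_symm, hvu, sgn_one, neg_one_smul, Matrix.neg_mulVec,
        ← Matrix.mulVec_mulVec, hz, Matrix.mulVec_neg, neg_neg]) (by rw [herm_E hS, hzz]))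
      (u_mem_M hS hN u)
    rwa [Sys.u_val, E_E] at this
  have hall : ∀ y, y ≠ 0 → ∀ s : F, (s = 1 ∨ s = -1) →
      ∀ z, S.E y *ᵥ z = s • z → Cfsg.hermForm 8 F p z z = 0 → Full p M z := fun y hy s hs z hz hzz => by
    obtain ⟨h, hh, -, t, ht⟩ := Sys.exists_move hlift hv hy
    set z' := ((h⁻¹ : GL (Fin 8) F) : Matrix (Fin 8) (Fin 8) F) *ᵥ z
    have hz' : S.E v *ᵥ z' = (t * s) • z' := by
      have e : S.E v = cj h⁻¹ (t • S.E y) := by rw [← ht, cj_inv_cj]
      rw [e, cj, inv_inv, ← Matrix.mulVec_mulVec, mulVec_inv_mulVec, ← Matrix.mulVec_mulVec, Matrix.smul_mulVec,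
        hz, smul_smul, Matrix.mulVec_smul]
    have hzz' : Cfsg.hermForm 8 F p z' z' = 0 := by rw [herm_mulVec (hMI (inv_mem hh)), hzz]
    have hfull : Full p M z' := by
      have hts : t * s = 1 ∨ t * s = -1 := by
        rcases S.sign_of_image ht with rfl | rfl <;> rcases hs with rfl | rfl <;> simp
      rcases hts with e | e <;> rw [e] at hz'
      · exact hfv z' (by rwa [one_smul] at hz') hzz'
      · exact hnv z' (by rwa [neg_one_smul] at hz') hzz'
    have := full_conj hS.card hMI hfull hh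
    rwa [mulVec_inv_mulVec] at this
  exact suGL_le_of_eigen hS hMI (fun y hy z hz => hall y hy 1 (Or.inl rfl) z (by rwa [one_smul]))
    fun y hy z hz => hall y hy (-1) (Or.inr rfl) z (by rwa [neg_one_smul])

omit hS in
/-- The normaliser of a symplectic-type group of order 256 with centre of order four is maximal. -/
theorem unitary_c6_maximal (hF : Nat.card F = p ^ 2) (hp : p.Prime) (h3 : p % 4 = 3)
    {R : Subgroup (GL (Fin 8) F)} (hRs : IsSymplecticTypeGroup 2 R)
    (hRi : ActsAbsolutelyIrreducibly (matrixSet R)) (hRU : R ≤ Cfsg.GU 8 F p)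
    (hZ4 : Nat.card (Subgroup.center R) = 4) :
    IsMaximalIn (suGL 8 F p) (subgroupNormalizer R ⊓ suGL 8 F p) := by
  classical
  haveI := Fintype.ofFinite F
  haveI := Fact.mk hp
  have h2 : (2 : F) ≠ 0 := by
    intro e
    have hch : ringChar F = 2 := CharP.ringChar_of_prime_eq_zero Nat.prime_two (by exact_mod_cast e)
    have h := FiniteField.even_card_iff_char_two.1 hch
    rw [← Nat.card_eq_fintype_card, hF, Nat.pow_mod] at h
    have : p % 2 = 1 := by omega
    rw [this] at h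
    simp at h
  obtain ⟨i, hi⟩ : IsSquare (-1 : F) := FiniteField.isSquare_neg_one_iff.2 (by
    rw [← Nat.card_eq_fintype_card, hF, Nat.pow_mod, h3]; norm_num)
  obtain ⟨S, -, hR⟩ := (groupData_of_data h2 hi.symm (by simp) hRs hRi hZ4).exists_sys
  have hgrp : R = grp S := Subgroup.ext fun g => hR g
  have hS : UData p S := ⟨hF, hp, h3, fun x => hRU (hgrp ▸ u_mem_grp S x)⟩
  subst hgrp
  exact isMaximalIn_of_key (proper hS) fun M h1 h2 h3 => key hS h1 h2 h3

end CfsgLib.Geo.SUEight
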